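import Cfsg.Agent.H43.PSLBal.Planes
import Cfsg.Agent.H43.Bal.GraphBase
import Mathlib

/-!
# Odd order automorphisms centralising the plane involutions
-/

set_option autoImplicit false

namespace H43

namespace PSLBal

open Matrix H55

variable {F : Type*} [Field F] [Fintype F] {n : ℕ}

/-- powers of an automorphism with a graph part keep the graph part at odd exponents -/
theorem graph_pow_odd (g : GL (Fin n) F) (τ : F ≃+* F) (k : ℕ) :
    ∃ g', (conjP g * fieldP τ * iotaP : MulAut (PSLn n F)) ^ (2 * k + 1) =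
      conjP g' * fieldP (τ ^ (2 * k + 1)) * iotaP := by
  induction k with
  | zero => exact ⟨g, by simp⟩
  | succ k ih =>
    obtain ⟨g', hg'⟩ := ih
    refine ⟨g' * mapGL (τ ^ (2 * k + 1)) (itGL g) *
      mapGL (τ ^ (2 * k + 1)) (mapGL τ g), ?_⟩
    have h1 : ∀ (a b : GL (Fin n) F) (s t : F ≃+* F),
        (conjP a * fieldP s * iotaP : MulAut (PSLn n F)) * (conjP b * fieldP t * iotaP) =
          conjP (a * mapGL s (itGL b)) * fieldP (s * t) := fun a b s t => by
      calc (conjP a * fieldP s * iotaP : MulAut (PSLn n F)) * (conjP b * fieldP t * iotaP)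
          = conjP a * fieldP s * (iotaP * conjP b) * fieldP t * iotaP := by group
        _ = conjP a * (fieldP s * conjP (itGL b)) * (iotaP * fieldP t) * iotaP := by rw [iotaP_conjP]; group
        _ = conjP a * (conjP (mapGL s (itGL b)) * fieldP s) * (fieldP t * iotaP) * iotaP := by
            rw [fieldP_conjP, iotaP_fieldP]
        _ = conjP a * conjP (mapGL s (itGL b)) * (fieldP s * fieldP t) * (iotaP * iotaP) := by group
        _ = conjP (a * mapGL s (itGL b)) * fieldP (s * t) := by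
            rw [iotaP_mul_self, mul_one, map_mul, map_mul]
    rw [show 2 * (k + 1) + 1 = 2 * k + 1 + 1 + 1 by ring, pow_succ _ (2 * k + 1 + 1), pow_succ _ (2 * k + 1),
      hg', h1, pow_succ τ (2 * k + 1 + 1), pow_succ τ (2 * k + 1)]
    have h2 : mapGL (τ ^ (2 * k + 1)) (mapGL τ g) = mapGL (τ ^ (2 * k + 1) * τ) g := by
      ext1; ext i j; rfl
    calc conjP (g' * mapGL (τ ^ (2 * k + 1)) (itGL g)) * fieldP (τ ^ (2 * k + 1) * τ) *
          (conjP g * fieldP τ * iotaP)
        = conjP (g' * mapGL (τ ^ (2 * k + 1)) (itGL g)) * (fieldP (τ ^ (2 * k + 1) * τ) * conjP g) *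
            fieldP τ * iotaP := by group
      _ = conjP (g' * mapGL (τ ^ (2 * k + 1)) (itGL g) * mapGL (τ ^ (2 * k + 1)) (mapGL τ g)) *
            (fieldP (τ ^ (2 * k + 1) * τ) * fieldP τ) * iotaP := by
          rw [fieldP_conjP, h2, map_mul conjP (g' * _)]; group
      _ = _ := by rw [← map_mul fieldP]

theorem not_odd_of_graph (hn : 3 ≤ n) (g : GL (Fin n) F) (τ : F ≃+* F) :
    ¬ Odd (orderOf (conjP g * fieldP τ * iotaP : MulAut (PSLn n F))) := fun ⟨k, hk⟩ => by
  obtain ⟨g', hg'⟩ := graph_pow_odd g τ k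
  rw [← hk, pow_orderOf_eq_one, eq_comm, mul_eq_one_iff_inv_eq, _root_.mul_inv_rev] at hg'
  refine iotaP_ne hn (mapGL (τ ^ orderOf (conjP g * fieldP τ * iotaP : MulAut (PSLn n F)))⁻¹ g'⁻¹)
    (τ ^ orderOf (conjP g * fieldP τ * iotaP : MulAut (PSLn n F)))⁻¹ ?_
  refine hg'.symm.trans ?_
  rw [← map_inv fieldP, ← map_inv conjP, fieldP_conjP]

/-- odd elements have no graph part -/
theorem exists_semilinear (hn : 2 ≤ n) {z : MulAut (PSLn n F)} (hz : Odd (orderOf z)) :
    ∃ g τ, z = conjP g * fieldP τ := by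
  obtain ⟨g, τ, γ, hγ, rfl⟩ := aut_PSL hn z
  rcases hγ with rfl | ⟨h3, rfl⟩
  · exact ⟨g, τ, mul_one _⟩
  · exact absurd hz (not_odd_of_graph h3 g τ)

theorem pmk_inj_smul {a b : SLn n F} (h : pmk a = pmk b) : ∃ c : F, (b : Mat n F) = c • (a : Mat n F) := by
  obtain ⟨c, -, hc⟩ := pmk_eq_iff.1 h
  exact ⟨c, hc⟩

theorem conj_psl_inj (hn : 2 ≤ n) : Function.Injective (MulAut.conj : PSLn n F → MulAut (PSLn n F)) := by
  rw [injective_iff_map_eq_one]
  intro a ha
  obtain ⟨s, rfl⟩ := pmk_surjective a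
  rw [← conjP_toGL, conjP_eq_one_iff hn] at ha
  obtain ⟨c, hc⟩ := ha
  rw [pmk_eq_one_iff]
  have h1 : (s : Mat n F) = (c : F) • 1 := by
    have := congrArg Units.val hc
    rw [GeneralLinearGroup.coe_scalar, scalar_apply, ← smul_one_eq_diagonal] at this
    exact this
  refine ⟨c, ?_, h1⟩
  have := s.2
  rwa [h1, det_smul, det_one, mul_one, Fintype.card_fin] at this

namespace FormData

variable (D : FormData n F)

/-- the plane involution in `PSL` -/
noncomputable def kElt (u v : Fin n → F) (hd : (D.gram u v).det ≠ 0) : PSLn n F := pmk (D.jSL u v hd)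

/-- **the plane involutions are centralised by no odd automorphism** -/
theorem eq_one_of_planes (hn : 3 ≤ n) {y : MulAut (PSLn n F)} (hy : Odd (orderOf y))
    (hk : ∀ u v hd, y (D.kElt u v hd) = D.kElt u v hd) : y = 1 := by
  classical
  obtain ⟨j, hj⟩ := Bal.exists_root hy
  set z := y ^ j
  have hzo : Odd (orderOf z) := by
    have h1 := orderOf_pow_dvd (x := y) j
    exact Bal.odd_of_dvd hy h1
  have hzk : ∀ u v hd, z (D.kElt u v hd) = D.kElt u v hd := fun u v hd =>
    (show Subgroup.closure {y} ≤ MulAction.stabilizer (MulAut (PSLn n F)) (D.kElt u v hd) from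
      (Subgroup.closure_le _).2 (Set.singleton_subset_iff.2 (hk u v hd)))
      (pow_mem (Subgroup.subset_closure (Set.mem_singleton y)) j)
  obtain ⟨g, τ, hz⟩ := exists_semilinear (by omega) hzo
  set T : GL (Fin n) F := g * mapGL τ g with hT
  have hyT : y = conjP T * fieldP (τ * τ) := by
    rw [hj, hz, hT, map_mul, map_mul]
    calc conjP g * fieldP τ * (conjP g * fieldP τ) = conjP g * (fieldP τ * conjP g) * fieldP τ := by group
      _ = _ := by rw [fieldP_conjP]; group
  -- the semilinear map keeps every non-degenerate plane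
  have hcomm : ∀ u v (hd : (D.gram u v).det ≠ 0),
      (T : Mat n F) * (D.jMat u v).map (τ * τ : F ≃+* F) = D.jMat u v * (T : Mat n F) := by
    intro u v hd
    have h1 := hzk u v hd
    rw [hz, MulAut.mul_apply, kElt, fieldP_pmk, conjP_pmk, eq_comm] at h1
    obtain ⟨c, hc⟩ := pmk_inj_smul h1
    rw [coe_conjSL, coe_fieldSL] at hc
    have hgc : (g : Mat n F) * (D.jMat u v).map τ = c • (D.jMat u v * (g : Mat n F)) := by
      have h2 := congrArg (· * (g : Mat n F)) hc
      simp only [Matrix.smul_mul] at h2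
      rwa [Matrix.mul_assoc, GL_inv_mul, Matrix.mul_one] at h2
    have hj2 : (D.jMat u v).map τ * (D.jMat u v).map τ = 1 := by
      rw [← Matrix.map_mul, D.jMat_sq hd, Matrix.map_one _ (map_zero _) (map_one _)]
    have hc2 : c * c = 1 := by
      have h2 : (g : Mat n F) = (c * c) • (g : Mat n F) := by
        conv_lhs => rw [← Matrix.mul_one (g : Mat n F), ← hj2, ← Matrix.mul_assoc, hgc, Matrix.smul_mul,
          Matrix.mul_assoc, hgc, Matrix.mul_smul, smul_smul, ← Matrix.mul_assoc, D.jMat_sq hd, Matrix.one_mul]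
      have hne : (g : Mat n F) ≠ 0 := fun e => by
        have h4 := GL_mul_inv g
        rw [e, Matrix.zero_mul] at h4
        have h5 := congrFun (congrFun h4 ⟨0, by omega⟩) ⟨0, by omega⟩
        simp at h5
      exact (smul_left_injective F hne (h2.symm.trans (one_smul F _).symm))
    have hcc : τ c * c = 1 := by
      rcases mul_self_eq_one_iff.1 hc2 with rfl | rfl <;> simp
    have h2 := congrArg (fun M : Mat n F => M.map τ) hgc
    rw [Matrix.map_mul, Matrix.map_smul' τ c _ (map_mul τ), Matrix.map_mul] at h2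
    rw [hT, Units.val_mul, coe_mapGL, Matrix.mul_assoc,
      show (D.jMat u v).map (τ * τ : F ≃+* F) = ((D.jMat u v).map τ).map τ by ext i j; rfl,
      h2, Matrix.mul_smul, ← Matrix.mul_assoc, hgc, Matrix.smul_mul, smul_smul, hcc, one_smul,
      Matrix.mul_assoc]
  let f : (Fin n → F) → (Fin n → F) := fun w => (T : Mat n F) *ᵥ fun i => (τ * τ : F ≃+* F) (w i)
  have hadd : ∀ a b, f (a + b) = f a + f b := fun a b => by
    simp only [f, ← mulVec_add]
    congr 1
    funext i
    simp
  have hsmul : ∀ (c : F) a, f (c • a) = (τ * τ : F ≃+* F) c • f a := fun c a => by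
    simp only [f, ← mulVec_smul]
    congr 1
    funext i
    simp
  have hplane : ∀ u v (hd : (D.gram u v).det ≠ 0), f u ∈ Submodule.span F {u, v} := by
    intro u v hd
    rw [← D.jMat_fixed_iff hd]
    have h1 := (D.jMat_fixed_iff hd u).2 (Submodule.subset_span (Set.mem_insert _ _))
    have h2 : (fun i => (τ * τ : F ≃+* F) ((D.jMat u v *ᵥ u) i)) =
        (D.jMat u v).map (τ * τ : F ≃+* F) *ᵥ fun i => (τ * τ : F ≃+* F) (u i) :=
      funext fun i => RingHom.map_mulVec ((τ * τ : F ≃+* F) : F →+* F) _ _ _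
    show D.jMat u v *ᵥ ((T : Mat n F) *ᵥ _) = _
    rw [mulVec_mulVec, ← hcomm u v hd, ← mulVec_mulVec, ← h2, h1, ← mulVec_neg]
    congr 1
    funext i
    simp
  have hline : ∀ u, ∃ l : F, f u = l • u := by
    intro u
    rcases eq_or_ne u 0 with rfl | hu
    · exact ⟨0, (show f 0 = (0 : F) • (0 : Fin n → F) by simp only [f, Pi.zero_apply, map_zero, smul_zero]; exact Matrix.mulVec_zero _)⟩
    obtain ⟨v, v', hd, hd', hv'⟩ := D.exists_planes hn hu
    obtain ⟨a, b, hab⟩ := Submodule.mem_span_pair.1 (hplane u v hd)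
    obtain ⟨a', b', hab'⟩ := Submodule.mem_span_pair.1 (hplane u v' hd')
    refine ⟨a', ?_⟩
    rcases eq_or_ne b' 0 with hb | hb
    · rw [← hab', hb, zero_smul, add_zero]
    · exact absurd (Submodule.mem_span_pair.2 ⟨b'⁻¹ * (a - a'), b'⁻¹ * b, (by
        have h3 : b' • v' = (a - a') • u + b • v := by
          linear_combination (norm := module) hab' - hab
        rw [mul_smul, mul_smul, ← smul_add, ← h3, inv_smul_smul₀ hb])⟩) hv'
  -- such a map is a scalar
  have hfin : f = fun w => f w := rfl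
  obtain ⟨l, hl⟩ : ∃ l : F, ∀ i : Fin n, f (Pi.single i 1) = l • Pi.single i 1 := by
    obtain ⟨l, hl⟩ := hline (Pi.single ⟨0, by omega⟩ 1)
    refine ⟨l, fun i => ?_⟩
    rcases eq_or_ne i ⟨0, by omega⟩ with rfl | hi
    · exact hl
    obtain ⟨li, hli⟩ := hline (Pi.single i 1)
    obtain ⟨ls, hls⟩ := hline (Pi.single ⟨0, by omega⟩ 1 + Pi.single i 1)
    rw [hadd, hl, hli] at hls
    have e0 := congrFun hls ⟨0, by omega⟩
    have e1 := congrFun hls i
    simp [hi, Ne.symm hi] at e0 e1
    rw [hli, e1, ← e0]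
  have hfield : ∀ c, (τ * τ : F ≃+* F) c = c := by
    intro c
    obtain ⟨lc, hlc⟩ := hline (c • Pi.single ⟨0, by omega⟩ 1 + Pi.single ⟨1, by omega⟩ 1)
    rw [hadd, hsmul, hl, hl] at hlc
    have e0 := congrFun hlc ⟨0, by omega⟩
    have e1 := congrFun hlc ⟨1, by omega⟩
    simp [Fin.ext_iff] at e0 e1
    have hl0 : l ≠ 0 := fun e => by
      have h1 := hl ⟨0, by omega⟩
      rw [e, zero_smul] at h1
      have h2 : f (Pi.single ⟨0, by omega⟩ 1) = f 0 := h1.trans (by simp only [f, Pi.zero_apply, map_zero]; exact (Matrix.mulVec_zero _).symm)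
      have h3 := Matrix.mulVec_injective_iff_isUnit.2 T.isUnit h2
      have h4 := congrFun h3 ⟨0, by omega⟩
      simp at h4
    rw [← e1, mul_comm l c] at e0
    exact mul_right_cancel₀ hl0 e0
  have hT1 : conjP T = 1 := by
    rw [conjP_eq_one_iff (by omega : 2 ≤ n)]
    have hTl : (T : Mat n F) = l • 1 := by
      ext i k
      have := congrFun (hl k) i
      simp only [f] at this
      rw [show (fun a => (τ * τ : F ≃+* F) ((Pi.single k (1 : F) : Fin n → F) a)) = Pi.single k 1 from
        funext fun a => by by_cases ha : a = k <;> simp [ha], mulVec_single_one] at this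
      simpa [Matrix.one_apply, Pi.single_apply, eq_comm] using this
    have hl0 : l ≠ 0 := fun e => by
      have h4 := GL_mul_inv T
      rw [hTl, e, zero_smul, Matrix.zero_mul] at h4
      have h5 := congrFun (congrFun h4 ⟨0, by omega⟩) ⟨0, by omega⟩
      simp at h5
    exact ⟨Units.mk0 l hl0, Units.ext (by
      rw [hTl, GeneralLinearGroup.coe_scalar, scalar_apply, ← smul_one_eq_diagonal]; rfl)⟩
  rw [hyT, hT1, one_mul, show (τ * τ : F ≃+* F) = 1 from RingEquiv.ext hfield, map_one]

/-- **no odd core at a graph automorphism** -/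
theorem core_eq_bot (hn : 3 ≤ n) (x : MulAut (PSLn n F))
    (hfix : ∀ u v hd, x (D.kElt u v hd) = D.kElt u v hd)
    (hM : ∀ M : Subgroup (PSLn n F), Odd (Nat.card M) → (∀ m ∈ M, x m = m) →
      (∀ d : MulAut (PSLn n F), d * x = x * d → ∀ m ∈ M, d m ∈ M) →
      ∀ m ∈ M, ∀ u v hd, m * D.kElt u v hd * m⁻¹ = D.kElt u v hd)
    (A : Subgroup (MulAut (PSLn n F))) (hinn : ∀ k, MulAut.conj k ∈ A) :
    Cfsg.pPrimeCore 2 ↥(A ⊓ Subgroup.centralizer ({x} : Set (MulAut (PSLn n F)))) = ⊥ := by
  classical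
  haveI : Finite (MulAut (PSLn n F)) :=
    Finite.of_injective (fun α => (α : PSLn n F → PSLn n F)) DFunLike.coe_injective
  have hinj := conj_psl_inj (F := F) (n := n) (by omega)
  have hcomm : ∀ k, x k = k → MulAut.conj k * x = x * MulAut.conj k := fun k hk =>
    Subgroup.mem_centralizer_singleton_iff.1 ((Bal.conj_mem_centralizer hinj k).2 hk)
  have hodd : ∀ {a : MulAut (PSLn n F)} {P : Subgroup (MulAut (PSLn n F))}, Odd (Nat.card P) → a ∈ P →
      Odd (orderOf a) := fun hP ha =>
    Bal.odd_of_dvd hP ((Subgroup.orderOf_mk _ ha) ▸ orderOf_dvd_natCard (⟨_, ha⟩ : (_ : Subgroup _)))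
  refine Bal.centralizer_core_eq_bot hinj x A hinn ?_ ?_
  · intro P hPo hPc hPn
    set M := P.comap (MulAut.conj : PSLn n F →* MulAut (PSLn n F))
    have hMo : Odd (Nat.card M) := by
      refine Bal.odd_of_dvd hPo ?_
      rw [Nat.card_congr (Subgroup.equivMapOfInjective M _ hinj).toEquiv]
      exact Subgroup.card_dvd_of_le (Subgroup.map_comap_le _ _)
    have hMfix : ∀ m ∈ M, x m = m := fun m hm => (Bal.conj_mem_centralizer hinj m).1
      (Subgroup.mem_centralizer_singleton_iff.2 (hPc _ hm))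
    have hMinv : ∀ d : MulAut (PSLn n F), d * x = x * d → ∀ m ∈ M, d m ∈ M := fun d hd m hm => by
      show MulAut.conj (d m) ∈ P
      rw [← Bal.aut_conj]
      exact hPn d hd _ hm
    have hM1 : ∀ m ∈ M, m = 1 := fun m hm => hinj (by
      rw [map_one]
      exact D.eq_one_of_planes hn (hodd hPo hm) fun u v hd => hM M hMo hMfix hMinv m hm u v hd)
    intro y hy
    refine D.eq_one_of_planes hn (hodd hPo hy) fun u v hd => ?_
    set k := D.kElt u v hd
    have h1 : y k * k⁻¹ ∈ M := by
      show MulAut.conj (y k * k⁻¹) ∈ P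
      rw [map_mul, map_inv, ← Bal.aut_conj, show y * MulAut.conj k * y⁻¹ * (MulAut.conj k)⁻¹ =
        y * (MulAut.conj k * y⁻¹ * (MulAut.conj k)⁻¹) by group]
      exact P.mul_mem hy (hPn _ (hcomm k (hfix u v hd)) _ (P.inv_mem hy))
    exact mul_inv_eq_one.1 (hM1 _ h1)
  · intro y _ hy hcen
    refine D.eq_one_of_planes hn hy fun u v hd => hinj ?_
    rw [← Bal.aut_conj, hcen _ (hfix u v hd), mul_inv_cancel_right]

end FormData

end PSLBal

end H43
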