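import Cfsg.Agent.H43.PSLBal.Abstract
import Cfsg.Agent.H43.PSLBal.Graph
import Cfsg.Agent.H55.PSLField
import Cfsg.Agent.H55.GaloisCard
import Cfsg.Agent.H48.LocalBalance
import Cfsg.Agent.H37.Generation
import Cfsg.Agent.H37.Card
import Cfsg.Agent.H37.SmallIso
import Mathlib

/-!
# The core of the centraliser of a field automorphism
-/

set_option autoImplicit false

namespace H43

namespace PSLBal

open Matrix H55

variable {F : Type*} [Field F] {n : ℕ}

/-- base change from a subfield, modulo scalars -/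
def bcSL (K : Subfield F) : SLn n K →* PSLn n F :=
  (pmk : SLn n F →* PSLn n F).comp (Matrix.SpecialLinearGroup.map K.subtype)

theorem bcSL_eq_one_iff (hn : 1 ≤ n) (K : Subfield F) (s : SLn n K) :
    bcSL K s = 1 ↔ (pmk s : PSLn n K) = 1 := by
  rw [bcSL, MonoidHom.comp_apply, pmk_eq_one_iff, pmk_eq_one_iff]
  constructor
  · rintro ⟨c, hcn, hc⟩
    set i : Fin n := ⟨0, hn⟩
    have he := congrFun (congrFun hc i) i
    simp only [Matrix.smul_apply, one_apply_eq, smul_eq_mul, mul_one] at he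
    have hd : K.subtype ((s : Matrix (Fin n) (Fin n) K) i i) = c := he
    refine ⟨(s : Matrix (Fin n) (Fin n) K) i i, ?_, ?_⟩
    · apply K.subtype.injective
      rw [map_pow, hd, hcn, map_one]
    · refine Matrix.map_injective K.subtype.injective ?_
      show (s : Matrix (Fin n) (Fin n) K).map K.subtype = _
      refine hc.trans ?_
      ext a b
      simp only [Matrix.map_apply, Matrix.smul_apply, smul_eq_mul, map_mul, hd]
      rcases eq_or_ne a b with rfl | h
      · simp
      · simp [one_apply_ne h]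
  · rintro ⟨c, hcn, hc⟩
    refine ⟨K.subtype c, by rw [← map_pow, hcn, map_one], ?_⟩
    show (s : Matrix (Fin n) (Fin n) K).map K.subtype = _
    rw [hc]
    ext a b
    rcases eq_or_ne a b with rfl | h
    · simp
    · simp [one_apply_ne h]

/-- base change from a subfield -/
noncomputable def bcP (hn : 1 ≤ n) (K : Subfield F) : PSLn n K →* PSLn n F :=
  QuotientGroup.lift _ (bcSL (n := n) K) fun s hs => MonoidHom.mem_ker.2
    ((bcSL_eq_one_iff hn K s).2 ((QuotientGroup.eq_one_iff s).2 hs))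

theorem bcP_pmk (hn : 1 ≤ n) (K : Subfield F) (s : SLn n K) : bcP hn K (pmk s) = bcSL K s := rfl

theorem bcP_injective (hn : 1 ≤ n) (K : Subfield F) :
    Function.Injective (bcP (n := n) hn K) := by
  rw [injective_iff_map_eq_one]
  intro a ha
  obtain ⟨s, rfl⟩ := pmk_surjective a
  exact (bcSL_eq_one_iff hn K s).1 ha

section Normal

variable {K : Type*} [Field K] [Finite K]

theorem psl_simple (hn : 3 ≤ n ∨ (n = 2 ∧ 4 ≤ Nat.card K)) : IsSimpleGroup (PSLn n K) := by
  rcases hn with h | ⟨rfl, h⟩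
  · exact H37.isSimpleGroup_PSL (by simpa using h)
  · exact Matrix.ProjectiveSpecialLinearGroup.rank_two_simple h

theorem pow_char_xe {r : ℕ} [CharP K r] {i j : Fin n} (h : i ≠ j) : (xe h (1 : K)) ^ r = 1 := by
  rw [← tv_eq_xe h (1 : K) (dot_smul_zero (ev_dot_ev h) 1)]
  exact tv_pow_char _ _ _

theorem xe_not_comm : pmk (xe (show (0 : Fin 2) ≠ 1 by decide) (1 : K)) *
    pmk (xe (show (1 : Fin 2) ≠ 0 by decide) (1 : K)) ≠
    pmk (xe (show (1 : Fin 2) ≠ 0 by decide) (1 : K)) * pmk (xe (show (0 : Fin 2) ≠ 1 by decide) (1 : K)) := by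
  intro h
  rw [← map_mul, ← map_mul, pmk_eq_iff] at h
  obtain ⟨c, -, hc⟩ := h
  rw [Matrix.SpecialLinearGroup.coe_mul, Matrix.SpecialLinearGroup.coe_mul,
    Matrix.SpecialLinearGroup.transvection_coe, Matrix.SpecialLinearGroup.transvection_coe] at hc
  have h01 := congrFun (congrFun hc 0) 1
  have h00 := congrFun (congrFun hc 0) 0
  simp [Matrix.mul_apply, Fin.sum_univ_two, Matrix.single_apply] at h01 h00
  rw [← h01] at h00
  exact one_ne_zero (by linear_combination -h00 : (1 : K) = 0)

/-- a normal subgroup of order prime to `p` of a group of order divisible by `p` -/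
theorem normal_coprime_eq_bot (hn : 2 ≤ n) {r : ℕ} [Fact r.Prime] [CharP K r] {p : ℕ} [Fact p.Prime]
    (hpr : p ≠ r) (hpK : p ∣ Nat.card (PSLn n K)) (N : Subgroup (PSLn n K)) (hN : N.Normal)
    (hcop : (Nat.card N).Coprime p) : N = ⊥ := by
  classical
  haveI := hN
  have hp := (Fact.out : p.Prime)
  by_cases hs : 3 ≤ n ∨ (n = 2 ∧ 4 ≤ Nat.card K)
  · haveI := psl_simple hs
    refine hN.eq_bot_or_eq_top.resolve_right fun h => ?_
    rw [h, Subgroup.card_top] at hcop
    exact (hp.coprime_iff_not_dvd.1 hcop.symm) hpK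
  · obtain rfl : n = 2 := by omega
    have hlt : Nat.card K < 4 := by omega
    have h1 : 1 < Nat.card K := Finite.one_lt_card
    obtain ⟨hcard, hcases⟩ : Nat.card K = r ∧ ((r = 2 ∧ p = 3 ∧ Nat.card (PSLn 2 K) = 6) ∨
        (r = 3 ∧ p = 2 ∧ Nat.card (PSLn 2 K) = 12)) := by
      have hr := (Fact.out : r.Prime)
      haveI := Fintype.ofFinite K
      obtain ⟨k, hk, hc⟩ := FiniteField.card K r
      rw [← Nat.card_eq_fintype_card] at hc
      have hk1 : (k : ℕ) = 1 := by
        by_contra h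
        have h2 : 2 ≤ (k : ℕ) := by have := k.pos; omega
        have h4 : 2 ^ 2 ≤ r ^ (k : ℕ) :=
          (Nat.pow_le_pow_left hr.two_le 2).trans (Nat.pow_le_pow_right hr.pos h2)
        omega
      rw [hk1, pow_one] at hc
      have hP : Nat.gcd 2 (Nat.card K - 1) * Nat.card (PSLn 2 K) = Nat.card K * (Nat.card K ^ 2 - 1) :=
        H37.card_PSL_two
      rw [hc] at hP ⊢
      refine ⟨rfl, ?_⟩
      rcases (show r = 2 ∨ r = 3 by
        have h2 : r ≤ 3 := by omega
        have := hr.two_le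
        omega) with rfl | rfl
      · rw [show Nat.gcd 2 (2 - 1) = 1 from rfl, one_mul] at hP
        rw [show 2 * (2 ^ 2 - 1) = 6 from rfl] at hP
        rw [hP] at hpK
        have : p ∣ 2 * 3 := hpK
        rcases hp.dvd_mul.1 this with e | e
        · exact absurd ((Nat.prime_dvd_prime_iff_eq hp Nat.prime_two).1 e) hpr
        · exact Or.inl ⟨rfl, (Nat.prime_dvd_prime_iff_eq hp Nat.prime_three).1 e, hP⟩
      · rw [show Nat.gcd 2 (3 - 1) = 2 from rfl, show 3 * (3 ^ 2 - 1) = 24 from rfl] at hP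
        have hP' : Nat.card (PSLn 2 K) = 12 := by omega
        rw [hP'] at hpK
        have : p ∣ 2 * 2 * 3 := hpK
        rcases hp.dvd_mul.1 this with e | e
        · exact Or.inr ⟨rfl, (Nat.prime_dvd_prime_iff_eq hp Nat.prime_two).1
            (hp.dvd_of_dvd_pow (n := 2) (by simpa [pow_two] using e)), hP'⟩
        · exact absurd ((Nat.prime_dvd_prime_iff_eq hp Nat.prime_three).1 e) hpr
    by_contra hne
    have hdvd := Subgroup.card_subgroup_dvd_card N
    have hNr : r ∣ Nat.card N := by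
      have hN1 : Nat.card N ≠ 1 := fun e => hne (Subgroup.card_eq_one.1 e)
      obtain ⟨l, hl, hl'⟩ := Nat.exists_prime_and_dvd hN1
      have hlp : l ≠ p := fun e => hl.ne_one (Nat.eq_one_of_dvd_coprimes hcop hl' (e ▸ dvd_rfl))
      rcases hcases with ⟨rfl, rfl, hc⟩ | ⟨rfl, rfl, hc⟩ <;> rw [hc] at hdvd
      · have : l ∣ 2 * 3 := hl'.trans hdvd
        rcases hl.dvd_mul.1 this with e | e
        · exact (Nat.prime_dvd_prime_iff_eq hl Nat.prime_two).1 e ▸ hl'
        · exact absurd ((Nat.prime_dvd_prime_iff_eq hl Nat.prime_three).1 e) hlp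
      · have : l ∣ 2 * 2 * 3 := hl'.trans hdvd
        rcases hl.dvd_mul.1 this with e | e
        · exact absurd ((Nat.prime_dvd_prime_iff_eq hl Nat.prime_two).1
            (hl.dvd_of_dvd_pow (n := 2) (by simpa [pow_two] using e))) hlp
        · exact (Nat.prime_dvd_prime_iff_eq hl Nat.prime_three).1 e ▸ hl'
    have hidx : N.index.Coprime r := by
      refine Nat.Coprime.symm (((Fact.out : r.Prime).coprime_iff_not_dvd).2 fun h => ?_)
      have h2 : r * r ∣ Nat.card (PSLn 2 K) := by
        rw [← N.card_mul_index]; exact mul_dvd_mul hNr h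
      rcases hcases with ⟨rfl, rfl, hc⟩ | ⟨rfl, rfl, hc⟩ <;> rw [hc] at h2 <;> norm_num at h2
    have hmem : ∀ x : PSLn 2 K, x ^ r = 1 → x ∈ N := by
      intro x hx
      rw [← QuotientGroup.eq_one_iff]
      exact orderOf_eq_one_iff.1 (Nat.eq_one_of_dvd_coprimes hidx (orderOf_dvd_natCard _)
        (orderOf_dvd_of_pow_eq_one (by rw [← QuotientGroup.mk_pow, hx, QuotientGroup.mk_one])))
    haveI : IsCyclic N := isCyclic_of_prime_card (p := r) (by
      rcases hcases with ⟨rfl, rfl, hc⟩ | ⟨rfl, rfl, hc⟩ <;> rw [hc] at hdvd <;>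
        have hle := Nat.le_of_dvd (by norm_num) hdvd <;> interval_cases hcN : Nat.card N <;>
        first
          | rfl
          | (exfalso; norm_num at hdvd hcop hNr)
          | (exfalso; revert hdvd hcop hNr; decide))
    letI : CommGroup N := IsCyclic.commGroup
    have hpx : ∀ {i j : Fin 2} (h : i ≠ j), (pmk (xe h (1 : K)) : PSLn 2 K) ∈ N := fun h =>
      hmem _ (by rw [← map_pow, pow_char_xe, map_one])
    exact xe_not_comm (congrArg Subtype.val (mul_comm (⟨_, hpx _⟩ : N) ⟨_, hpx _⟩))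

end Normal

variable [Fintype F]

theorem dvd_card_psl (hn : 2 ≤ n) {K : Type*} [Field K] [Finite K] {r : ℕ} [Fact r.Prime] [CharP K r]
    {p : ℕ} [Fact p.Prime] (hpr : p ≠ r) (h : p ∣ Nat.card (SLn n K)) : p ∣ Nat.card (PSLn n K) := by
  classical
  haveI : Nonempty (Fin n) := ⟨⟨0, by omega⟩⟩
  have hp := (Fact.out : p.Prime)
  rw [← H37.card_PSL_mul, Fintype.card_fin] at h
  rcases hp.dvd_mul.1 h with h1 | h1
  swap
  · exact h1
  haveI := Fintype.ofFinite K
  have hdK : p ∣ Nat.card Kˣ := by rw [Nat.card_units]; exact h1.trans (Nat.gcd_dvd_right _ _)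
  obtain ⟨a, ha⟩ := exists_prime_orderOf_dvd_card' p hdK
  have ha1 : (a : K) ≠ 1 := fun e => hp.ne_one (by
    rw [← ha, show a = 1 from Units.ext e, orderOf_one])
  obtain ⟨x, hx, hx1⟩ : ∃ x : SLn n K, x ^ p ∈ Subgroup.center (SLn n K) ∧ (pmk x : PSLn n K) ≠ 1 := by
    set i : Fin n := ⟨0, by omega⟩
    set j : Fin n := ⟨1, by omega⟩
    have hij : i ≠ j := by simp [i, j, Fin.ext_iff]
    by_cases hs : p = 2 ∧ n = 2
    · obtain ⟨rfl, rfl⟩ := hs
      refine ⟨⟨!![0, 1; -1, 0], by simp [det_fin_two]⟩, ?_, fun e => ?_⟩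
      · rw [Subgroup.mem_center_iff]
        intro t
        apply Subtype.ext
        simp only [Matrix.SpecialLinearGroup.coe_mul, Matrix.SpecialLinearGroup.coe_pow]
        show (t : Matrix (Fin 2) (Fin 2) K) * (!![0, 1; -1, 0] : Matrix (Fin 2) (Fin 2) K) ^ 2 =
          (!![0, 1; -1, 0] : Matrix (Fin 2) (Fin 2) K) ^ 2 * (t : Matrix (Fin 2) (Fin 2) K)
        have h2 : (!![0, 1; -1, 0] * !![0, 1; -1, 0] : Matrix (Fin 2) (Fin 2) K) = -1 := by
          ext u v
          fin_cases u <;> fin_cases v <;> simp [Matrix.mul_apply, Fin.sum_univ_two]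
        rw [pow_two, h2]
        simp
      · obtain ⟨c, -, hc⟩ := pmk_eq_one_iff.1 e
        have := congrFun (congrFun hc 0) 1
        simp at this
    · refine ⟨SpecialLinearGroup.diag2n hij (a : K) a.ne_zero, ?_, fun e => ?_⟩
      · suffices h2 : SpecialLinearGroup.diag2n hij (a : K) a.ne_zero ^ p = 1 by
          rw [h2]; exact Subgroup.one_mem _
        apply Subtype.ext
        have hap : (a : K) ^ p = 1 := by rw [← Units.val_pow_eq_pow_val, ← ha, pow_orderOf_eq_one, Units.val_one]
        rw [Matrix.SpecialLinearGroup.coe_pow, Matrix.SpecialLinearGroup.coe_one]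
        show (Matrix.diagonal _) ^ p = 1
        rw [Matrix.diagonal_pow]
        rw [← Matrix.diagonal_one]
        congr 1
        funext k
        rw [Pi.pow_apply]
        split_ifs <;> simp [hap, inv_pow]
      · obtain ⟨c, -, hc⟩ := pmk_eq_one_iff.1 e
        have hcii := congrFun (congrFun hc i) i
        have hcjj := congrFun (congrFun hc j) j
        have hval : ∀ k, (SpecialLinearGroup.diag2n hij (a : K) a.ne_zero : Matrix (Fin n) (Fin n) K) k k =
            if k = i then (a : K) else if k = j then (a : K)⁻¹ else 1 := fun k => Matrix.diagonal_apply_eq _ k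
        rw [hval, if_pos rfl, Matrix.smul_apply, one_apply_eq, smul_eq_mul, mul_one] at hcii
        rw [hval, if_neg hij.symm, if_pos rfl, Matrix.smul_apply, one_apply_eq, smul_eq_mul, mul_one] at hcjj
        rcases (show 3 ≤ n ∨ n = 2 by omega) with h3 | h2
        · set k : Fin n := ⟨2, by omega⟩
          have hckk := congrFun (congrFun hc k) k
          rw [hval, if_neg (by simp [k, i, Fin.ext_iff]), if_neg (by simp [k, j, Fin.ext_iff]),
            Matrix.smul_apply, one_apply_eq, smul_eq_mul, mul_one] at hckk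
          exact ha1 (hcii.trans hckk.symm)
        · have h4 : a ^ 2 = 1 := Units.ext (by
            rw [Units.val_pow_eq_pow_val, Units.val_one, pow_two]
            conv_lhs => arg 2; rw [hcii, ← hcjj]
            exact mul_inv_cancel₀ a.ne_zero)
          have h5 := orderOf_dvd_of_pow_eq_one h4
          rw [ha] at h5
          exact hs ⟨(Nat.prime_dvd_prime_iff_eq hp Nat.prime_two).1 h5, h2⟩
  have h6 : orderOf (pmk x : PSLn n K) ∣ p := orderOf_dvd_of_pow_eq_one (by
    rw [← map_pow]; exact (QuotientGroup.eq_one_iff _).2 hx)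
  rcases (Nat.dvd_prime hp).1 h6 with e | e
  · exact absurd (orderOf_eq_one_iff.1 e) hx1
  · exact e ▸ orderOf_dvd_natCard _

theorem field_cent (hn : 2 ≤ n) {p : ℕ} [Fact p.Prime] {σ : F ≃+* F} (hσ : orderOf σ = p)
    (α : MulAut (PSLn n F)) (hα : ∀ s, α (bcSL (fixF σ) s) = bcSL (fixF σ) s) : α ^ p = 1 := by
  classical
  obtain ⟨r, hr⟩ := CharP.exists F
  haveI := hr
  haveI : Fact r.Prime := ⟨CharP.char_is_prime F r⟩
  have hfix : ∀ (i j : Fin n) (h : i ≠ j) (a : F), σ a = a → α (pmk (xe h a)) = pmk (xe h a) := by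
    intro i j h a ha
    have h1 := hα (xe h (⟨a, ha⟩ : fixF σ))
    have e : bcSL (fixF σ) (xe h (⟨a, ha⟩ : fixF σ)) = pmk (xe h a) := by
      rw [bcSL, MonoidHom.comp_apply]
      congr 1
      apply Subtype.ext
      ext u v
      simp [Matrix.SpecialLinearGroup.transvection_coe, Matrix.single_apply, one_apply,
        apply_ite (fixF σ).subtype]
      split_ifs <;> simp
    rwa [e] at h1
  obtain ⟨g, τ, γ, hγ, rfl⟩ := aut_PSL hn α
  rcases hγ with rfl | ⟨h3, rfl⟩
  swap
  · exfalso
    have key : ∀ (i j : Fin n) (hij : i ≠ j),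
        (g : Mat n F) * Matrix.single j i (-1 : F) = Matrix.single i j (1 : F) * (g : Mat n F) := by
      intro i j hij
      refine conjSL_xe_eq (p := r) hij.symm hij (-1) 1 ?_
      have h1 := hfix i j hij 1 (map_one σ)
      rw [MulAut.mul_apply, MulAut.mul_apply, iotaP_pmk] at h1
      have e : iotaSL (xe hij (1 : F)) = xe hij.symm (-1 : F) := by
        apply Subtype.ext
        rw [coe_iotaSL, Matrix.SpecialLinearGroup.transvection_inv,
          Matrix.SpecialLinearGroup.transvection_coe, Matrix.SpecialLinearGroup.transvection_coe,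
          Matrix.transpose_add, Matrix.transpose_one, Matrix.transpose_single]
      rw [e, fieldP_xe, map_neg, map_one] at h1
      exact h1
    let i : Fin n := ⟨0, by omega⟩
    have hcol : ∀ a, (g : Mat n F) a i = 0 := by
      intro a
      obtain ⟨j, hj, hja⟩ : ∃ j : Fin n, j ≠ i ∧ j ≠ a := by
        obtain ⟨k, hk⟩ := Finset.exists_mem_notMem_of_card_lt_card (s := ({i, a} : Finset (Fin n)))
          (t := Finset.univ) (lt_of_le_of_lt Finset.card_le_two (by simp; omega))
        simp at hk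
        exact ⟨k, hk.1, hk.2⟩
      have := congr_fun (congr_fun (key j i hj) a) j
      simpa [hja.symm] using this
    have h2 := congr_fun (congr_fun (GL_inv_mul g) i) i
    rw [Matrix.mul_apply, one_apply_eq, Finset.sum_eq_zero fun a _ => by rw [hcol a, mul_zero]] at h2
    exact zero_ne_one h2
  rw [mul_one] at hfix ⊢
  have key : ∀ (i j : Fin n) (hij : i ≠ j) (a : F), σ a = a →
      (g : Mat n F) * Matrix.single i j (τ a) = Matrix.single i j a * (g : Mat n F) := by
    intro i j hij a ha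
    refine conjSL_xe_eq (p := r) hij hij (τ a) a ?_
    have h1 := hfix i j hij a ha
    rwa [MulAut.mul_apply, fieldP_xe] at h1
  obtain ⟨c, hc⟩ := mem_range_scalar_of_commute_single (M := (g : Mat n F)) (fun i j hij => by
    show Matrix.single i j (1 : F) * (g : Mat n F) = (g : Mat n F) * Matrix.single i j (1 : F)
    have h1 := key i j hij 1 (map_one σ)
    rw [map_one] at h1
    exact h1.symm)
  have hc0 : c ≠ 0 := by
    intro hc0
    have h2 := GL_mul_inv g
    rw [← hc, hc0, map_zero, zero_mul] at h2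
    have := congr_fun (congr_fun h2 ⟨0, by omega⟩) ⟨0, by omega⟩
    simp at this
  have hτ : ∀ a, σ a = a → τ a = a := by
    intro a ha
    have hij : (⟨0, by omega⟩ : Fin n) ≠ ⟨1, by omega⟩ := by simp [Fin.ext_iff]
    have := congr_fun (congr_fun (key _ _ hij a ha) ⟨0, by omega⟩) ⟨1, by omega⟩
    rw [← hc] at this
    simp [Matrix.scalar_apply] at this
    exact mul_left_cancel₀ hc0 (by linear_combination this)
  have hg : conjP g = 1 := (conjP_eq_one_iff hn).2 ⟨Units.mk0 c hc0, Units.ext (by rw [← hc]; rfl)⟩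
  rw [hg, one_mul, ← map_pow, H48.Balance.pow_eq_one_of_fix hσ hτ, map_one]

/-- **the core at a field automorphism** -/
theorem field_core_iff (hn : 2 ≤ n) {r : ℕ} [Fact r.Prime] [CharP F r] {p : ℕ} [Fact p.Prime]
    (hpr : p ≠ r) {σ : F ≃+* F} (hσ : orderOf σ = p) (A : Subgroup (MulAut (PSLn n F)))
    (hinn : ∀ k, MulAut.conj k ∈ A) :
    Cfsg.pPrimeCore p ↥(A ⊓ Subgroup.centralizer ({fieldP σ} : Set (MulAut (PSLn n F)))) ≠ ⊥ ↔
      Nat.Coprime p (Nat.card ↥(MonoidHom.eqLocus (fieldP σ : MulAut (PSLn n F)).toMonoidHom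
        (MonoidHom.id (PSLn n F)))) := by
  classical
  set K := fixF σ
  haveI : Fintype K := Fintype.ofFinite _
  haveI : CharP K r := (RingHom.charP_iff_charP K.subtype r).2 inferInstance
  haveI : Finite (PSLn n F) := inferInstance
  have hinj := conj_psl_inj (F := F) (n := n) hn
  have hn1 : 1 ≤ n := by omega
  refine Bal.core_ne_bot_iff_of_coprime hinj A hinn (bcP hn1 K).range ?_ ?_ ?_ ?_ ?_
  · rintro _ ⟨a, rfl⟩
    obtain ⟨s, rfl⟩ := pmk_surjective a
    rw [bcP_pmk, bcSL, MonoidHom.comp_apply, fieldP_pmk]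
    congr 1
    apply Subtype.ext
    ext i j
    exact ((s : Matrix (Fin n) (Fin n) K) i j).2
  · rw [ne_eq, MonoidHom.range_eq_bot_iff]
    intro h
    have hij : (⟨0, by omega⟩ : Fin n) ≠ ⟨1, by omega⟩ := by simp [Fin.ext_iff]
    have h1 := DFunLike.congr_fun h (pmk (xe hij (1 : K)))
    obtain ⟨c, -, hc⟩ := pmk_eq_one_iff.1 ((bcSL_eq_one_iff hn1 K _).1 h1)
    have := congrFun (congrFun hc ⟨0, by omega⟩) ⟨1, by omega⟩
    simp [Matrix.SpecialLinearGroup.transvection_coe] at this
  · intro hpC N hle hnorm hcop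
    have hpK : p ∣ Nat.card (PSLn n K) := by
      refine dvd_card_psl hn hpr ?_
      obtain ⟨e⟩ := centralizer_field (n := n) hn (σ := σ) (RingEquiv.refl K)
      rw [← H37.card_PGL_eq_card_SL, ← Nat.card_congr e.toEquiv]
      refine hpC.trans ?_
      refine Subgroup.card_dvd_of_injective
        ((MulAut.conj.comp (MonoidHom.eqLocus (fieldP σ : MulAut (PSLn n F)).toMonoidHom
          (MonoidHom.id (PSLn n F))).subtype).codRestrict _ fun y => ⟨?_, (Bal.conj_mem_centralizer hinj _).2 y.2⟩) ?_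
      · obtain ⟨s, hs⟩ := pmk_surjective y.1
        rw [inndiagPSL_eq_range]
        exact ⟨Matrix.SpecialLinearGroup.toGL s, by rw [conjP_toGL, hs]; rfl⟩
      · exact fun a b h => Subtype.ext (hinj (congrArg Subtype.val h))
    have h0 : N.comap (bcP hn1 K) = ⊥ := by
      refine normal_coprime_eq_bot hn hpr hpK _ ⟨fun a ha s => ?_⟩ ?_
      · show bcP hn1 K (s * a * s⁻¹) ∈ N
        rw [map_mul, map_mul, map_inv]
        exact hnorm _ ⟨s, rfl⟩ _ ha
      · rw [← Nat.card_congr (Subgroup.equivMapOfInjective _ _ (bcP_injective hn1 K)).symm.toEquiv,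
          Subgroup.map_comap_eq_self hle]
        exact hcop
    rw [← Subgroup.map_comap_eq_self hle, h0, Subgroup.map_bot]
  · rintro c hc _ ⟨a, rfl⟩
    obtain ⟨s, rfl⟩ := pmk_surjective a
    obtain ⟨t, rfl⟩ := pmk_surjective c
    have hpre : Matrix.SpecialLinearGroup.toGL t ∈ preCentralizer conjP (fieldP (n := n) σ) := by
      rw [mem_preCentralizer, conjP_toGL]
      rw [mul_inv_eq_iff_eq_mul]
      exact Subgroup.mem_centralizer_singleton_iff.1 ((Bal.conj_mem_centralizer hinj _).2 hc)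
    obtain ⟨l, h, hh, he⟩ := (preCentralizer_field hn).1 hpre
    obtain ⟨h₀, rfl⟩ := fixed_GL_mem_range hh
    refine ⟨pmk (conjSL h₀ s), ?_⟩
    rw [bcP_pmk, bcP_pmk]
    show bcSL K (conjSL h₀ s) = MulAut.conj (pmk t) (bcSL K s)
    rw [← conjP_toGL, he, map_mul, conjP_scalar, one_mul, bcSL, MonoidHom.comp_apply,
      MonoidHom.comp_apply, conjP_pmk]
    congr 1
    apply Subtype.ext
    rw [coe_conjSL]
    show ((conjSL h₀ s : SLn n K) : Matrix (Fin n) (Fin n) K).map K.subtype = _
    rw [coe_conjSL, Matrix.map_mul, Matrix.map_mul]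
    rfl
  · intro α hα
    exact field_cent hn hσ α fun s => hα _ ⟨pmk s, rfl⟩

end PSLBal

end H43
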