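import Cfsg.Agent.H43.Bal.Abstract
import Mathlib

/-!
# The `p'`-core of a centraliser when the fixed subgroup need not be simple
-/

set_option autoImplicit false

namespace H43

namespace Bal

variable {G : Type*} [Group G]

theorem core_ne_bot_iff_of_coprime [Finite G] (hinj : Function.Injective (MulAut.conj : G → MulAut G))
    {p : ℕ} [Fact p.Prime] {φ : MulAut G} (A : Subgroup (MulAut G)) (hinn : ∀ k, MulAut.conj k ∈ A)
    (S : Subgroup G) (hfix : ∀ s ∈ S, φ s = s) (hne : S ≠ ⊥)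
    (hsub : p ∣ Nat.card ↥(MonoidHom.eqLocus φ.toMonoidHom (MonoidHom.id G)) → ∀ N : Subgroup G, N ≤ S →
      (∀ s ∈ S, ∀ n ∈ N, s * n * s⁻¹ ∈ N) → (Nat.card N).Coprime p → N = ⊥)
    (hnorm : ∀ c, φ c = c → ∀ s ∈ S, c * s * c⁻¹ ∈ S)
    (hcent : ∀ α : MulAut G, (∀ s ∈ S, α s = s) → α ^ p = 1) :
    Cfsg.pPrimeCore p ↥(A ⊓ Subgroup.centralizer {φ}) ≠ ⊥ ↔
      Nat.Coprime p (Nat.card ↥(MonoidHom.eqLocus φ.toMonoidHom (MonoidHom.id G))) := by
  classical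
  haveI : Finite (MulAut G) := Finite.of_injective (fun α => (α : G → G)) DFunLike.coe_injective
  set C := MonoidHom.eqLocus φ.toMonoidHom (MonoidHom.id G)
  set D := A ⊓ Subgroup.centralizer ({φ} : Set (MulAut G))
  have hmem : ∀ y, y ∈ C ↔ φ y = y := fun y => Iff.rfl
  have hCD : ∀ y ∈ C, MulAut.conj y ∈ D := fun y hy => ⟨hinn y, (conj_mem_centralizer hinj y).2 hy⟩
  have hDC : ∀ d ∈ D, ∀ y ∈ C, d y ∈ C := by
    intro d hd y hy
    have hd' := Subgroup.mem_centralizer_singleton_iff.1 hd.2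
    rw [hmem] at hy ⊢
    calc φ (d y) = (φ * d) y := rfl
      _ = (d * φ) y := by rw [hd']
      _ = d y := by rw [MulAut.mul_apply, hy]
  constructor
  swap
  · intro hcop hbot
    set L := (C.map MulAut.conj).subgroupOf D
    have hL : L.Normal := by
      refine ⟨fun x hx d => ?_⟩
      obtain ⟨y, hy, hxy⟩ := Subgroup.mem_subgroupOf.1 hx
      refine Subgroup.mem_subgroupOf.2 ⟨(d : MulAut G) y, hDC _ d.2 y hy, ?_⟩
      rw [← aut_conj, hxy]
      rfl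
    have hle : L ≤ Cfsg.pPrimeCore p D := H10.le_pPrimeCore hL (by
      rw [Nat.card_congr (Subgroup.subgroupOfEquivOfLe (by rintro _ ⟨y, hy, rfl⟩; exact hCD y hy)).toEquiv,
        ← Nat.card_congr (Subgroup.equivMapOfInjective C _ hinj).toEquiv]
      exact hcop.symm)
    rw [hbot, le_bot_iff] at hle
    obtain ⟨s, hs, hs1⟩ : ∃ s ∈ S, s ≠ 1 := by
      by_contra h
      push Not at h
      exact hne (Subgroup.eq_bot_iff_forall _ |>.2 h)
    have h1 : (⟨MulAut.conj s, hCD s (hfix s hs)⟩ : D) ∈ L :=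
      Subgroup.mem_subgroupOf.2 ⟨s, hfix s hs, rfl⟩
    rw [hle, Subgroup.mem_bot] at h1
    exact hs1 (hinj ((congrArg Subtype.val h1).trans (map_one MulAut.conj).symm))
  intro hcore
  by_contra hcop
  apply hcore
  have hpC : p ∣ Nat.card C := (Fact.out : p.Prime).dvd_iff_not_coprime.2 hcop
  set N := (Cfsg.pPrimeCore p D).map D.subtype
  have hN : (Nat.card N).Coprime p :=
    Nat.Coprime.coprime_dvd_left (Subgroup.card_map_dvd _ _) H10.pPrimeCore_coprime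
  have hNconj : ∀ d ∈ D, ∀ x ∈ N, d * x * d⁻¹ ∈ N := by
    rintro d hd _ ⟨x, hx, rfl⟩
    exact ⟨⟨d, hd⟩ * x * ⟨d, hd⟩⁻¹, H10.pPrimeCore_normal.conj_mem _ hx _, rfl⟩
  set P := N.comap (MulAut.conj : G →* MulAut G) ⊓ C
  have hPconj : ∀ c ∈ C, ∀ x ∈ P, c * x * c⁻¹ ∈ P := by
    rintro c hc x ⟨hxN, hxC⟩
    refine ⟨?_, C.mul_mem (C.mul_mem hc hxC) (C.inv_mem hc)⟩
    show MulAut.conj (c * x * c⁻¹) ∈ N
    rw [map_mul, map_mul, map_inv]
    exact hNconj _ (hCD c hc) _ hxN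
  have hSC : ∀ s ∈ S, s ∈ C := hfix
  have hPS : P ⊓ S = ⊥ := hsub hpC (P ⊓ S) inf_le_right (fun s hs n hn =>
      ⟨hPconj s (hSC s hs) n hn.1, S.mul_mem (S.mul_mem hs hn.2) (S.inv_mem hs)⟩) (by
    refine Nat.Coprime.coprime_dvd_left ?_ hN
    rw [Nat.card_congr (Subgroup.equivMapOfInjective (P ⊓ S) _ hinj).toEquiv]
    exact Subgroup.card_dvd_of_le (Subgroup.map_le_iff_le_comap.2 fun x hx => hx.1.1))
  have hP : ∀ y ∈ P, y = 1 := by
    intro y hy
    have hys : ∀ s ∈ S, MulAut.conj y s = s := by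
      intro s hs
      have h1 : y * s * y⁻¹ * s⁻¹ ∈ P ⊓ S := by
        refine ⟨?_, S.mul_mem (hnorm y hy.2 s hs) (S.inv_mem hs)⟩
        rw [show y * s * y⁻¹ * s⁻¹ = y * (s * y⁻¹ * s⁻¹) by group]
        exact P.mul_mem hy (hPconj s (hSC s hs) _ (P.inv_mem hy))
      rw [hPS, Subgroup.mem_bot, mul_inv_eq_one] at h1
      exact h1
    exact hinj ((eq_one_of_coprime hN hy.1 (hcent _ hys)).trans (map_one MulAut.conj).symm)
  rw [eq_bot_iff]
  intro x hx
  rw [Subgroup.mem_bot]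
  have hxN : (x : MulAut G) ∈ N := ⟨x, hx, rfl⟩
  have hxs : ∀ s ∈ S, (x : MulAut G) s = s := by
    intro s hs
    have h1 : (x : MulAut G) s * s⁻¹ ∈ P := by
      refine ⟨?_, C.mul_mem (hDC _ x.2 s (hSC s hs)) (C.inv_mem (hSC s hs))⟩
      show MulAut.conj ((x : MulAut G) s * s⁻¹) ∈ N
      rw [map_mul, map_inv, ← aut_conj, show (x : MulAut G) * MulAut.conj s * (x : MulAut G)⁻¹ *
        (MulAut.conj s)⁻¹ = (x : MulAut G) * (MulAut.conj s * (x : MulAut G)⁻¹ * (MulAut.conj s)⁻¹) by group]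
      exact N.mul_mem hxN (hNconj _ (hCD s (hSC s hs)) _ (N.inv_mem hxN))
    exact mul_inv_eq_one.1 (hP _ h1)
  exact Subtype.ext (eq_one_of_coprime hN hxN (hcent _ hxs))

end Bal

end H43
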