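import Cfsg.Agent.H43.PSLBal.Graph
import Cfsg.Agent.H55.PSLGraph
import Cfsg.Agent.H48.Simple
import Cfsg.Agent.H50.Simple
import Mathlib

/-!
# Odd cores at graph and graph-field automorphisms: the groups with simple isometry quotient
-/

set_option autoImplicit false

namespace H43

namespace PSLBal

open Matrix H55

variable {F : Type*} [Field F] {n : ℕ}

namespace FormData

variable (D : FormData n F)

/-- the special isometries -/
def iso : Subgroup (SLn n F) where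
  carrier := {s | ((s : Mat n F).map D.σ)ᵀ * D.S * (s : Mat n F) = D.S}
  one_mem' := by simp
  mul_mem' {a b} ha hb := by
    simp only [Set.mem_setOf_eq] at ha hb ⊢
    rw [Matrix.SpecialLinearGroup.coe_mul, Matrix.map_mul, transpose_mul]
    calc ((b : Mat n F).map D.σ)ᵀ * ((a : Mat n F).map D.σ)ᵀ * D.S * ((a : Mat n F) * (b : Mat n F))
        = ((b : Mat n F).map D.σ)ᵀ * (((a : Mat n F).map D.σ)ᵀ * D.S * (a : Mat n F)) * (b : Mat n F) := by
          simp only [Matrix.mul_assoc]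
      _ = D.S := by rw [ha, hb]
  inv_mem' {a} ha := by
    simp only [Set.mem_setOf_eq] at ha ⊢
    set b := ((a⁻¹ : SLn n F) : Mat n F)
    have hab : (a : Mat n F) * b = 1 := by
      rw [← Matrix.SpecialLinearGroup.coe_mul, mul_inv_cancel, Matrix.SpecialLinearGroup.coe_one]
    have h1 : (b.map D.σ)ᵀ * ((a : Mat n F).map D.σ)ᵀ = 1 := by
      rw [← transpose_mul, ← Matrix.map_mul, hab, Matrix.map_one _ (map_zero _) (map_one _), transpose_one]
    calc (b.map D.σ)ᵀ * D.S * b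
        = (b.map D.σ)ᵀ * (((a : Mat n F).map D.σ)ᵀ * D.S * (a : Mat n F)) * b := by rw [ha]
      _ = ((b.map D.σ)ᵀ * ((a : Mat n F).map D.σ)ᵀ) * D.S * ((a : Mat n F) * b) := by
          simp only [Matrix.mul_assoc]
      _ = D.S := by rw [h1, hab, Matrix.one_mul, Matrix.mul_one]

theorem mem_iso (s : SLn n F) : s ∈ D.iso ↔ ((s : Mat n F).map D.σ)ᵀ * D.S * (s : Mat n F) = D.S := Iff.rfl

theorem jSL_mem (u v : Fin n → F) (hd : (D.gram u v).det ≠ 0) : D.jSL u v hd ∈ D.iso := D.jMat_isometry hd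

theorem jSL_sq (u v : Fin n → F) (hd : (D.gram u v).det ≠ 0) : D.jSL u v hd * D.jSL u v hd = 1 :=
  Subtype.ext (D.jMat_sq hd)

theorem kElt_inv (u v : Fin n → F) (hd : (D.gram u v).det ≠ 0) : (D.kElt u v hd)⁻¹ = D.kElt u v hd :=
  inv_eq_of_mul_eq_one_right (by show pmk _ * pmk _ = 1; rw [← map_mul, D.jSL_sq, map_one])

theorem kElt_ne_one (hn : 3 ≤ n) (u v : Fin n → F) (hd : (D.gram u v).det ≠ 0) : D.kElt u v hd ≠ 1 := by
  classical
  intro h
  obtain ⟨c, -, hc⟩ := pmk_eq_one_iff.1 h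
  have hc' : D.jMat u v = c • 1 := hc
  have hu : u ≠ 0 := by
    intro e
    apply hd
    rw [e]
    have h0 : ∀ w, D.B (0 : Fin n → F) w = 0 := fun w => by
      rw [← zero_smul F (0 : Fin n → F), B_smul_left, map_zero, zero_mul]
    rw [det_gram, h0, h0, zero_mul, zero_mul, sub_self]
  have h1 := (D.jMat_fixed_iff hd u).2 (Submodule.subset_span (Set.mem_insert _ _))
  rw [hc', smul_mulVec, one_mulVec] at h1
  have hc1 : c = -1 := smul_left_injective F hu (h1.trans (neg_one_smul F u).symm)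
  have htop : ∀ w : Fin n → F, w ∈ Submodule.span F ({u, v} : Set (Fin n → F)) := fun w =>
    (D.jMat_fixed_iff hd w).1 (by rw [hc', smul_mulVec, one_mulVec, hc1, neg_one_smul])
  have h2 : Module.finrank F (Submodule.span F ({u, v} : Set (Fin n → F))) ≤ 2 := by
    have h3 := finrank_span_finset_le_card (R := F) ({u, v} : Finset (Fin n → F))
    rw [Finset.coe_insert, Finset.coe_singleton] at h3
    exact le_trans h3 Finset.card_le_two
  rw [show Submodule.span F ({u, v} : Set (Fin n → F)) = ⊤ from eq_top_iff.2 fun w _ => htop w,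
    finrank_top, Module.finrank_fin_fun] at h2
  omega

/-- the automorphism belonging to a form -/
noncomputable def aut : MulAut (PSLn n F) :=
  conjP (GeneralLinearGroup.mkOfDetNeZero D.S D.det)⁻¹ * fieldP D.σ * iotaP

theorem aut_apply (s : SLn n F) : D.aut (pmk s) =
    pmk (conjSL (GeneralLinearGroup.mkOfDetNeZero D.S D.det)⁻¹ (fieldSL D.σ (iotaSL s))) := rfl

theorem aut_fix {s : SLn n F} (hs : s ∈ D.iso) : D.aut (pmk s) = pmk s := by
  rw [D.aut_apply]
  congr 1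
  apply Subtype.ext
  rw [coe_conjSL, inv_inv, coe_fieldSL, coe_iotaSL]
  set G := GeneralLinearGroup.mkOfDetNeZero D.S D.det
  have hs' : ((s : Mat n F).map D.σ)ᵀ * D.S * (s : Mat n F) = D.S := hs
  have h1 : (((s⁻¹ : SLn n F) : Mat n F)ᵀ.map D.σ) * ((s : Mat n F).map D.σ)ᵀ = 1 := by
    rw [← transpose_map, ← Matrix.map_mul, ← transpose_mul, ← Matrix.SpecialLinearGroup.coe_mul,
      mul_inv_cancel, Matrix.SpecialLinearGroup.coe_one, transpose_one, Matrix.map_one _ (map_zero _) (map_one _)]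
  have h2 : ((s⁻¹ : SLn n F) : Mat n F)ᵀ.map D.σ * D.S = D.S * (s : Mat n F) := by
    conv_lhs => rw [← hs', ← Matrix.mul_assoc, ← Matrix.mul_assoc, h1, Matrix.one_mul]
  rw [Matrix.mul_assoc]
  show ((G⁻¹ : GL (Fin n) F) : Mat n F) * ((((s⁻¹ : SLn n F) : Mat n F)ᵀ.map D.σ) * D.S) = _
  rw [h2, ← Matrix.mul_assoc, show ((G⁻¹ : GL (Fin n) F) : Mat n F) * D.S = 1 from GL_inv_mul G, Matrix.one_mul]

theorem exists_similitude {s : SLn n F} (hs : D.aut (pmk s) = pmk s) :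
    ∃ c : F, ((s : Mat n F).map D.σ)ᵀ * D.S * (s : Mat n F) = c • D.S := by
  rw [D.aut_apply] at hs
  obtain ⟨c, hc⟩ := pmk_eq_iff.1 hs
  obtain ⟨-, hc⟩ := hc
  rw [coe_conjSL, inv_inv, coe_fieldSL, coe_iotaSL] at hc
  set G := GeneralLinearGroup.mkOfDetNeZero D.S D.det
  have hA : ((s : Mat n F).map D.σ)ᵀ * ((s⁻¹ : SLn n F) : Mat n F)ᵀ.map D.σ = 1 := by
    rw [← transpose_map, ← Matrix.map_mul, ← transpose_mul, ← Matrix.SpecialLinearGroup.coe_mul,
      inv_mul_cancel, Matrix.SpecialLinearGroup.coe_one, transpose_one, Matrix.map_one _ (map_zero _) (map_one _)]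
  refine ⟨c, ?_⟩
  conv_lhs => arg 2; rw [hc]
  rw [Matrix.mul_smul]
  congr 1
  calc ((s : Mat n F).map D.σ)ᵀ * D.S *
        (((G⁻¹ : GL (Fin n) F) : Mat n F) * ((s⁻¹ : SLn n F) : Mat n F)ᵀ.map D.σ * (G : Mat n F))
      = ((s : Mat n F).map D.σ)ᵀ * ((G : Mat n F) * ((G⁻¹ : GL (Fin n) F) : Mat n F)) *
          ((s⁻¹ : SLn n F) : Mat n F)ᵀ.map D.σ * (G : Mat n F) := by
        simp only [Matrix.mul_assoc]; rfl
    _ = D.S := by rw [GL_mul_inv, Matrix.mul_one, hA, Matrix.one_mul]; rfl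

theorem similitude_ne {s : SLn n F} (hn : 1 ≤ n) {c : F}
    (h : ((s : Mat n F).map D.σ)ᵀ * D.S * (s : Mat n F) = c • D.S) : c ≠ 0 := fun e => by
  rw [e, zero_smul] at h
  have h1 := congrArg Matrix.det h
  rw [det_mul, det_mul, det_transpose, s.2, mul_one,
    show ((s : Mat n F).map D.σ).det = D.σ (s : Mat n F).det from (RingHom.map_det (D.σ : F →+* F) _).symm,
    s.2, map_one, one_mul] at h1
  haveI : Nonempty (Fin n) := ⟨⟨0, hn⟩⟩
  exact D.det (h1.trans det_zero)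

theorem conj_mem_iso {s a : SLn n F} (hn : 1 ≤ n) {c : F}
    (h : ((s : Mat n F).map D.σ)ᵀ * D.S * (s : Mat n F) = c • D.S) (ha : a ∈ D.iso) : s * a * s⁻¹ ∈ D.iso := by
  rw [mem_iso] at ha ⊢
  set b := ((s⁻¹ : SLn n F) : Mat n F)
  have hsb : (s : Mat n F) * b = 1 := by
    rw [← Matrix.SpecialLinearGroup.coe_mul, mul_inv_cancel, Matrix.SpecialLinearGroup.coe_one]
  have hb : (b.map D.σ)ᵀ * (c • D.S) * b = D.S := by
    rw [← h]
    calc (b.map D.σ)ᵀ * (((s : Mat n F).map D.σ)ᵀ * D.S * (s : Mat n F)) * b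
        = ((b.map D.σ)ᵀ * ((s : Mat n F).map D.σ)ᵀ) * D.S * ((s : Mat n F) * b) := by simp only [Matrix.mul_assoc]
      _ = D.S := by
          rw [← transpose_mul, ← Matrix.map_mul, hsb, Matrix.map_one _ (map_zero _) (map_one _), transpose_one,
            Matrix.one_mul, Matrix.mul_one]
  rw [Matrix.SpecialLinearGroup.coe_mul, Matrix.SpecialLinearGroup.coe_mul, Matrix.map_mul, Matrix.map_mul,
    transpose_mul, transpose_mul]
  calc (b.map D.σ)ᵀ * (((a : Mat n F).map D.σ)ᵀ * ((s : Mat n F).map D.σ)ᵀ) * D.S *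
        ((s : Mat n F) * (a : Mat n F) * b)
      = (b.map D.σ)ᵀ * (((a : Mat n F).map D.σ)ᵀ * (((s : Mat n F).map D.σ)ᵀ * D.S * (s : Mat n F)) *
          (a : Mat n F)) * b := by simp only [Matrix.mul_assoc]
    _ = (b.map D.σ)ᵀ * (c • D.S) * b := by rw [h, Matrix.mul_smul, Matrix.smul_mul, ha]
    _ = D.S := hb

variable [Fintype F]

/-- the odd core is trivial if the special isometry group has no interesting normal subgroup -/
theorem core_eq_bot_of_iso (hn : 3 ≤ n)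
    (hN : ∀ N : Subgroup D.iso, N.Normal → N ≤ Subgroup.center D.iso ∨ N = ⊤)
    (A : Subgroup (MulAut (PSLn n F))) (hinn : ∀ k, MulAut.conj k ∈ A) :
    Cfsg.pPrimeCore 2 ↥(A ⊓ Subgroup.centralizer ({D.aut} : Set (MulAut (PSLn n F)))) = ⊥ := by
  classical
  refine D.core_eq_bot hn D.aut (fun u v hd => D.aut_fix (D.jSL_mem u v hd)) ?_ A hinn
  intro M hMo hMfix hMinv m hm u v hd
  have hinj := conj_psl_inj (F := F) (n := n) (by omega)
  have hnorm : ∀ k : D.iso, ∀ a ∈ M, pmk k.1 * a * (pmk k.1)⁻¹ ∈ M := fun k a ha =>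
    hMinv (MulAut.conj (pmk k.1))
      (Subgroup.mem_centralizer_singleton_iff.1 ((Bal.conj_mem_centralizer hinj _).2 (D.aut_fix k.2))) a ha
  set N : Subgroup D.iso := M.comap ((pmk : SLn n F →* PSLn n F).comp D.iso.subtype)
  have hNn : N.Normal := ⟨fun a ha k => by
    show pmk (((k * a * k⁻¹ : D.iso) : SLn n F)) ∈ M
    rw [Subgroup.coe_mul, Subgroup.coe_mul, Subgroup.coe_inv, map_mul, map_mul, map_inv]
    exact hnorm k _ ha⟩
  have hord : ∀ {a : PSLn n F}, a ∈ M → Odd (orderOf (MulAut.conj a)) := fun ha =>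
    Bal.odd_of_dvd hMo (dvd_trans (orderOf_map_dvd MulAut.conj _)
      ((Subgroup.orderOf_mk _ ha) ▸ orderOf_dvd_natCard (⟨_, ha⟩ : M)))
  have hcen : N ≤ Subgroup.center D.iso := by
    refine (hN N hNn).resolve_right fun h => ?_
    have h1 : D.kElt u v hd ∈ M := (h.symm ▸ Subgroup.mem_top (⟨_, D.jSL_mem u v hd⟩ : D.iso) : _ ∈ N)
    have h2 : orderOf (⟨_, h1⟩ : M) ∣ 2 := orderOf_dvd_of_pow_eq_one (Subtype.ext (by
      rw [SubmonoidClass.coe_pow, pow_two]; show pmk _ * pmk _ = 1; rw [← map_mul, D.jSL_sq, map_one]))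
    rcases (Nat.dvd_prime Nat.prime_two).1 h2 with e | e
    · exact D.kElt_ne_one hn u v hd (congrArg Subtype.val (orderOf_eq_one_iff.1 e))
    · exact hMo.not_two_dvd_nat (e ▸ orderOf_dvd_natCard (⟨_, h1⟩ : M))
  obtain ⟨s, rfl⟩ := pmk_surjective m
  obtain ⟨c, hc⟩ := D.exists_similitude (hMfix _ hm)
  set j := D.jSL u v hd
  have haI : s * j * s⁻¹ * j ∈ D.iso :=
    D.iso.mul_mem (D.conj_mem_iso (by omega) hc (D.jSL_mem u v hd)) (D.jSL_mem u v hd)
  have haM : pmk (s * j * s⁻¹ * j) ∈ M := by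
    rw [show pmk (s * j * s⁻¹ * j) = pmk s * (pmk j * (pmk s)⁻¹ * (pmk j)⁻¹) by
      rw [show (pmk j)⁻¹ = pmk j from D.kElt_inv u v hd]; simp only [map_mul, map_inv, mul_assoc]]
    exact M.mul_mem hm (hnorm ⟨j, D.jSL_mem u v hd⟩ _ (M.inv_mem hm))
  have h1 : MulAut.conj (pmk (s * j * s⁻¹ * j)) = 1 := by
    refine D.eq_one_of_planes hn (hord haM) fun u' v' hd' => ?_
    have h2 := Subgroup.mem_center_iff.1 (hcen (show (⟨_, haI⟩ : D.iso) ∈ N from haM))
      ⟨_, D.jSL_mem u' v' hd'⟩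
    have h3 := congrArg (fun a : D.iso => pmk (a : SLn n F)) h2
    simp only [Subgroup.coe_mul, map_mul] at h3
    rw [MulAut.conj_apply, mul_inv_eq_iff_eq_mul]
    simp only [map_mul]
    exact h3.symm
  rw [← map_one MulAut.conj] at h1
  have h4 := hinj h1
  rw [map_mul, map_mul, map_mul, map_inv] at h4
  calc pmk s * D.kElt u v hd * (pmk s)⁻¹ = (pmk j)⁻¹ := eq_inv_of_mul_eq_one_left h4
    _ = D.kElt u v hd := D.kElt_inv u v hd

omit [Fintype F] in
/-- the form of an involutory graph automorphism -/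
theorem sym_shape {h : GL (Fin n) F} (hh : (h : Mat n F)ᵀ = h ∨ (h : Mat n F)ᵀ = -(h : Mat n F)) :
    (((h⁻¹ : GL (Fin n) F) : Mat n F)ᵀ = ((h⁻¹ : GL (Fin n) F) : Mat n F) ∧ (h : Mat n F)ᵀ = h) ∨
    (((h⁻¹ : GL (Fin n) F) : Mat n F)ᵀ = -((h⁻¹ : GL (Fin n) F) : Mat n F) ∧
      (h : Mat n F)ᵀ = -(h : Mat n F)) := by
  have e : ((h⁻¹ : GL (Fin n) F) : Mat n F)ᵀ * (h : Mat n F)ᵀ = 1 := by
    rw [← transpose_mul, GL_mul_inv, transpose_one]
  rcases hh with hh | hh
  · refine Or.inl ⟨?_, hh⟩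
    rw [hh] at e
    rw [← Matrix.mul_one ((h⁻¹ : GL (Fin n) F) : Mat n F)ᵀ, ← GL_mul_inv h, ← Matrix.mul_assoc, e, Matrix.one_mul]
  · refine Or.inr ⟨?_, hh⟩
    rw [hh, Matrix.mul_neg] at e
    rw [← Matrix.mul_one ((h⁻¹ : GL (Fin n) F) : Mat n F)ᵀ, ← GL_mul_inv h, ← Matrix.mul_assoc,
      show ((h⁻¹ : GL (Fin n) F) : Mat n F)ᵀ * (h : Mat n F) = -1 from neg_eq_iff_eq_neg.1 e, Matrix.neg_mul,
      Matrix.one_mul]

omit [Fintype F] in
theorem aut_of_graph {h : GL (Fin n) F} (hσ : D.σ = RingEquiv.refl F)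
    (hS : D.S = ((h⁻¹ : GL (Fin n) F) : Mat n F)) : D.aut = conjP h * iotaP := by
  rw [aut, hσ, show fieldP (n := n) (RingEquiv.refl F) = 1 from map_one fieldP, mul_one]
  congr 2
  rw [inv_eq_iff_eq_inv]
  exact Units.ext hS

/-- alternating forms -/
theorem iso_normal_alt {m : ℕ} (hm : 2 ≤ m) (hnm : n = 2 * m) (hσ : D.σ = RingEquiv.refl F)
    (he : D.Sᵀ = -D.S) (N : Subgroup D.iso) (hNn : N.Normal) : N ≤ Subgroup.center D.iso ∨ N = ⊤ := by
  classical
  haveI := hNn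
  have hodd : Odd (Fintype.card F) := by
    rcases Nat.even_or_odd (Fintype.card F) with h | h
    · exfalso
      haveI : CharP F 2 := by
        obtain ⟨p, hp⟩ := CharP.exists F
        haveI := hp
        haveI : Fact p.Prime := ⟨CharP.char_is_prime F p⟩
        obtain ⟨k, hk, hc⟩ := FiniteField.card F p
        rw [hc, Nat.even_pow] at h
        obtain ⟨h2, -⟩ := h
        rwa [(Nat.prime_dvd_prime_iff_eq Nat.prime_two hk).1 h2.two_dvd]
      exact D.two CharTwo.two_eq_zero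
    · exact h
  obtain ⟨P, P', c, hc0, hPP', hP'P, hJ⟩ :=
    congr_J_of_skew hodd he D.det (m := m) (by simpa using hnm)
  have hcard : 3 ≤ Fintype.card F := by
    obtain ⟨k, hk⟩ := hodd
    have := Fintype.one_lt_card (α := F)
    omega
  have hS' : P' * Matrix.J (Fin m) F * P'ᵀ = c • D.S := by
    rw [hJ, Matrix.mul_smul, Matrix.smul_mul]
    congr 1
    rw [← Matrix.mul_assoc, ← Matrix.mul_assoc, hP'P, Matrix.one_mul, Matrix.mul_assoc, ← transpose_mul,
      hP'P, transpose_one, Matrix.mul_one]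
  have hto : ∀ A : Matrix.symplecticGroup (Fin m) F,
      Matrix.det (P' * (A : Matrix (Fin m ⊕ Fin m) (Fin m ⊕ Fin m) F) * P) = 1 := fun A =>
    (Matrix.det_conj_of_mul_eq_one hP'P hPP').trans (H47.symplectic_det_one A)
  let ψ₀ : Matrix.symplecticGroup (Fin m) F →* SLn n F :=
    { toFun := fun A => iotaSL ⟨P' * (A : Matrix (Fin m ⊕ Fin m) (Fin m ⊕ Fin m) F) * P, hto A⟩
      map_one' := by
        rw [← map_one (iotaSL (n := n) (F := F))]
        congr 1
        apply Subtype.ext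
        simp [hP'P]
      map_mul' := fun A B => by
        refine Eq.trans ?_ (map_mul iotaSL _ _)
        congr 1
        apply Subtype.ext
        show P' * ((A * B : Matrix.symplecticGroup (Fin m) F) : Matrix (Fin m ⊕ Fin m) (Fin m ⊕ Fin m) F) * P =
          P' * (A : Matrix (Fin m ⊕ Fin m) (Fin m ⊕ Fin m) F) * P * (P' * (B : Matrix (Fin m ⊕ Fin m) (Fin m ⊕ Fin m) F) * P)
        rw [show P' * (A : Matrix (Fin m ⊕ Fin m) (Fin m ⊕ Fin m) F) * P * (P' * (B : Matrix (Fin m ⊕ Fin m) (Fin m ⊕ Fin m) F) * P) =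
          P' * (A : Matrix (Fin m ⊕ Fin m) (Fin m ⊕ Fin m) F) * (P * P') * (B : Matrix (Fin m ⊕ Fin m) (Fin m ⊕ Fin m) F) * P by simp only [Matrix.mul_assoc], hPP',
          Matrix.mul_one, Submonoid.coe_mul]
        simp only [Matrix.mul_assoc] }
  have hψ₀ : ∀ A, ψ₀ A ∈ D.iso := by
    intro A
    rw [mem_iso, hσ]
    set t : SLn n F := ⟨P' * (A : Matrix (Fin m ⊕ Fin m) (Fin m ⊕ Fin m) F) * P, hto A⟩
    have ht : (t : Mat n F) * D.S * (t : Mat n F)ᵀ = D.S := by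
      have h1 : c • ((t : Mat n F) * D.S * (t : Mat n F)ᵀ) = c • D.S := by
        rw [← Matrix.smul_mul, ← Matrix.mul_smul, ← hS', transpose_mul, transpose_mul]
        calc P' * (A : Matrix (Fin m ⊕ Fin m) (Fin m ⊕ Fin m) F) * P * (P' * Matrix.J (Fin m) F * P'ᵀ) * (Pᵀ * ((A : Matrix (Fin m ⊕ Fin m) (Fin m ⊕ Fin m) F)ᵀ * P'ᵀ))
            = P' * (A : Matrix (Fin m ⊕ Fin m) (Fin m ⊕ Fin m) F) * (P * P') * Matrix.J (Fin m) F * (P'ᵀ * Pᵀ) *
                ((A : Matrix (Fin m ⊕ Fin m) (Fin m ⊕ Fin m) F)ᵀ * P'ᵀ) := by simp only [Matrix.mul_assoc]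
          _ = P' * ((A : Matrix (Fin m ⊕ Fin m) (Fin m ⊕ Fin m) F) * Matrix.J (Fin m) F * (A : Matrix (Fin m ⊕ Fin m) (Fin m ⊕ Fin m) F)ᵀ) * P'ᵀ := by
              rw [← transpose_mul, hPP', transpose_one]
              simp only [Matrix.mul_one, Matrix.mul_assoc]
          _ = P' * Matrix.J (Fin m) F * P'ᵀ := by rw [SymplecticGroup.mem_iff.1 A.2]
      exact smul_right_injective _ hc0 h1
    have hti : ((t⁻¹ : SLn n F) : Mat n F) * (t : Mat n F) = 1 := by
      rw [← Matrix.SpecialLinearGroup.coe_mul, inv_mul_cancel, Matrix.SpecialLinearGroup.coe_one]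
    show (((iotaSL t : SLn n F) : Mat n F).map (RingEquiv.refl F))ᵀ * D.S * ((iotaSL t : SLn n F) : Mat n F) = D.S
    rw [coe_iotaSL, show ∀ M : Mat n F, M.map (RingEquiv.refl F) = M from fun M => Matrix.ext fun _ _ => rfl,
      transpose_transpose]
    conv_lhs => rw [← ht]
    rw [show ((t⁻¹ : SLn n F) : Mat n F) * ((t : Mat n F) * D.S * (t : Mat n F)ᵀ) * ((t⁻¹ : SLn n F) : Mat n F)ᵀ =
      (((t⁻¹ : SLn n F) : Mat n F) * (t : Mat n F)) * D.S * ((t : Mat n F)ᵀ * ((t⁻¹ : SLn n F) : Mat n F)ᵀ) by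
      simp only [Matrix.mul_assoc], ← transpose_mul, hti, transpose_one, Matrix.one_mul, Matrix.mul_one]
  let ψ : Matrix.symplecticGroup (Fin m) F →* D.iso := ψ₀.codRestrict D.iso hψ₀
  have hsurj : Function.Surjective ψ := by
    rintro ⟨s, hs⟩
    rw [mem_iso, hσ, show ∀ M : Mat n F, M.map (RingEquiv.refl F) = M from
      fun M => Matrix.ext fun _ _ => rfl] at hs
    set t : SLn n F := iotaSL s
    have hu : ((s⁻¹ : SLn n F) : Mat n F)ᵀ * (s : Mat n F)ᵀ = 1 := by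
      rw [← transpose_mul, ← Matrix.SpecialLinearGroup.coe_mul, mul_inv_cancel,
        Matrix.SpecialLinearGroup.coe_one, transpose_one]
    have hv : (s : Mat n F) * ((s⁻¹ : SLn n F) : Mat n F) = 1 := by
      rw [← Matrix.SpecialLinearGroup.coe_mul, mul_inv_cancel, Matrix.SpecialLinearGroup.coe_one]
    have ht : (t : Mat n F) * D.S * (t : Mat n F)ᵀ = D.S := by
      rw [coe_iotaSL, transpose_transpose]
      conv_lhs => rw [← hs]
      rw [show ((s⁻¹ : SLn n F) : Mat n F)ᵀ * ((s : Mat n F)ᵀ * D.S * (s : Mat n F)) * ((s⁻¹ : SLn n F) : Mat n F) =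
        (((s⁻¹ : SLn n F) : Mat n F)ᵀ * (s : Mat n F)ᵀ) * D.S * ((s : Mat n F) * ((s⁻¹ : SLn n F) : Mat n F)) by
        simp only [Matrix.mul_assoc], hu, hv, Matrix.one_mul, Matrix.mul_one]
    refine ⟨⟨P * (t : Mat n F) * P', SymplecticGroup.mem_iff.2 ?_⟩, ?_⟩
    · rw [hJ, transpose_mul, transpose_mul, Matrix.mul_smul, Matrix.smul_mul]
      congr 1
      rw [show P * (t : Mat n F) * P' * (P * D.S * Pᵀ) * (P'ᵀ * ((t : Mat n F)ᵀ * Pᵀ)) =
        P * (t : Mat n F) * (P' * P) * D.S * (Pᵀ * P'ᵀ) * ((t : Mat n F)ᵀ * Pᵀ) by simp only [Matrix.mul_assoc],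
        hP'P, ← transpose_mul, hP'P, transpose_one, Matrix.mul_one, Matrix.mul_one,
        ← Matrix.mul_assoc, Matrix.mul_assoc P (t : Mat n F), Matrix.mul_assoc P ((t : Mat n F) * D.S), ht]
    · apply Subtype.ext
      show iotaSL (⟨P' * (P * (t : Mat n F) * P') * P, _⟩ : SLn n F) = s
      rw [show (⟨P' * (P * (t : Mat n F) * P') * P, _⟩ : SLn n F) = t from Subtype.ext (by
        show P' * (P * (t : Mat n F) * P') * P = _
        rw [show P' * (P * (t : Mat n F) * P') * P = (P' * P) * (t : Mat n F) * (P' * P) by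
          simp only [Matrix.mul_assoc], hP'P, Matrix.one_mul, Matrix.mul_one])]
      exact iotaSL.left_inv s
  haveI : Nonempty (Fin m) := ⟨⟨0, by omega⟩⟩
  have hperf := H48.perfect (l := Fin m) (F := F) (Or.inr (Or.inl ⟨by simpa using hm, hcard⟩))
  rcases H48.normal_le_center_or (N.comap ψ) with h | h
  · left
    intro a ha
    obtain ⟨A, rfl⟩ := hsurj a
    rw [Subgroup.mem_center_iff]
    intro b
    obtain ⟨B, rfl⟩ := hsurj b
    rw [← map_mul, ← map_mul, Subgroup.mem_center_iff.1 (h (show A ∈ N.comap ψ from ha)) B]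
  · right
    rw [hperf, top_le_iff] at h
    rw [eq_top_iff]
    rintro a -
    obtain ⟨A, rfl⟩ := hsurj a
    exact (h.symm ▸ Subgroup.mem_top A : A ∈ N.comap ψ)

/-- Hermitian forms with the identity matrix -/
theorem iso_normal_herm (hn : 3 ≤ n) (hσ : orderOf D.σ = 2) (hS : D.S = 1) (N : Subgroup D.iso)
    (hNn : N.Normal) : N ≤ Subgroup.center D.iso ∨ N = ⊤ := by
  classical
  haveI := hNn
  set q := Nat.card (fixF D.σ) with hq
  have hF : Fintype.card F = q ^ 2 := by rw [← Nat.card_eq_fintype_card, card_fixF D.σ, hσ]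
  have hqne : q ≠ 2 := fun e => by
    rw [e] at hF
    obtain ⟨p, hp⟩ := CharP.exists F
    haveI := hp
    haveI : Fact p.Prime := ⟨CharP.char_is_prime F p⟩
    obtain ⟨k, hk, hc⟩ := FiniteField.card F p
    rw [hF, show (2 : ℕ) ^ 2 = 4 from rfl] at hc
    have h2 : p = 2 := by
      have h4 : p ∣ 2 ^ 2 := by rw [show (2 : ℕ) ^ 2 = 4 from rfl, hc]; exact dvd_pow_self p k.2.ne'
      exact (Nat.prime_dvd_prime_iff_eq hk Nat.prime_two).1 (hk.dvd_of_dvd_pow h4)
    subst h2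
    exact D.two CharTwo.two_eq_zero
  have hB : ∀ u v, Cfsg.hermForm n F q u v = D.B v u := by
    intro u v
    rw [Cfsg.hermForm, B, hS, one_mulVec, dotProduct]
    refine Finset.sum_congr rfl fun i _ => ?_
    rw [apply_eq_pow hσ, mul_comm]
  have hiff : ∀ s : SLn n F, s ∈ Cfsg.SU n F q ↔ s ∈ D.iso := by
    intro s
    rw [mem_iso]
    show (∀ u v, Cfsg.hermForm n F q ((s : Mat n F) *ᵥ u) ((s : Mat n F) *ᵥ v) = Cfsg.hermForm n F q u v) ↔ _
    have hval : ∀ u v, D.B ((s : Mat n F) *ᵥ u) ((s : Mat n F) *ᵥ v) =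
        (fun i => D.σ (u i)) ⬝ᵥ ((((s : Mat n F).map D.σ)ᵀ * D.S * (s : Mat n F)) *ᵥ v) := fun u v => by
      rw [B, ← mulVec_mulVec, ← mulVec_mulVec, dotProduct_mulVec _ (((s : Mat n F).map D.σ)ᵀ), vecMul_transpose]
      congr 1
      funext i
      exact RingHom.map_mulVec (D.σ : F →+* F) _ _ _
    constructor
    · intro h
      ext i j
      have := h (Pi.single j 1) (Pi.single i 1)
      rw [hB, hB, hval, B] at this
      have e : ∀ k : Fin n, (fun a => D.σ ((Pi.single k (1 : F) : Fin n → F) a)) = Pi.single k 1 := fun k =>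
        funext fun a => by by_cases ha : a = k <;> simp [ha]
      simpa [e, single_dotProduct, mulVec_single_one] using this
    · intro h u v
      rw [hB, hB, hval, h]; rfl
  let ψ : Cfsg.SU n F q →* D.iso :=
    { toFun := fun a => ⟨a.1, (hiff a.1).1 a.2⟩
      map_one' := rfl
      map_mul' := fun _ _ => rfl }
  have hsurj : Function.Surjective ψ := fun a => ⟨⟨a.1, (hiff a.1).2 a.2⟩, rfl⟩
  rcases H50.normal_le_center_or_eq_top hF hn (fun h => hqne h.2) (N.comap ψ) with h | h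
  · left
    intro a ha
    obtain ⟨A, rfl⟩ := hsurj a
    rw [Subgroup.mem_center_iff]
    intro b
    obtain ⟨B, rfl⟩ := hsurj b
    rw [← map_mul, ← map_mul, Subgroup.mem_center_iff.1 (h (show A ∈ N.comap ψ from ha)) B]
  · right
    rw [eq_top_iff]
    rintro a -
    obtain ⟨A, rfl⟩ := hsurj a
    exact (h.symm ▸ Subgroup.mem_top A : A ∈ N.comap ψ)

end FormData

end PSLBal

end H43
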