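import Cfsg.Agent.H43.PSLBal.Sym
import Cfsg.Agent.H43.PSLBal.Field
import Cfsg.Agent.H43.Bal.Transport
import Cfsg.Agent.H55.PSLGraphField
import Mathlib

/-!
# Local balance in almost simple groups with linear socle
-/

set_option autoImplicit false

namespace H43

namespace PSLBal

open Matrix H55

variable {F : Type*} [Field F] [Fintype F] {n : ℕ}

theorem graph_core_bot (hn : 3 ≤ n) (h2 : (2 : F) ≠ 0) (g : GL (Fin n) F) (τ : F ≃+* F)
    (hsq : orderOf (conjP g * fieldP τ * iotaP : MulAut (PSLn n F)) = 2)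
    (A : Subgroup (MulAut (PSLn n F))) (hinn : ∀ k, MulAut.conj k ∈ A) :
    Cfsg.pPrimeCore 2
      ↥(A ⊓ Subgroup.centralizer ({conjP g * fieldP τ * iotaP} : Set (MulAut (PSLn n F)))) = ⊥ := by
  classical
  have hτ2 : τ * τ = 1 := by
    have h1 : (conjP g * fieldP τ * iotaP : MulAut (PSLn n F)) * (conjP g * fieldP τ * iotaP) =
        conjP (g * mapGL τ (itGL g)) * fieldP (τ * τ) := by
      calc (conjP g * fieldP τ * iotaP : MulAut (PSLn n F)) * (conjP g * fieldP τ * iotaP)
          = conjP g * fieldP τ * (iotaP * conjP g) * fieldP τ * iotaP := by group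
        _ = conjP g * (fieldP τ * conjP (itGL g)) * (iotaP * fieldP τ) * iotaP := by rw [iotaP_conjP]; group
        _ = conjP g * (conjP (mapGL τ (itGL g)) * fieldP τ) * (fieldP τ * iotaP) * iotaP := by
            rw [fieldP_conjP, iotaP_fieldP]
        _ = conjP g * conjP (mapGL τ (itGL g)) * (fieldP τ * fieldP τ) * (iotaP * iotaP) := by group
        _ = conjP (g * mapGL τ (itGL g)) * fieldP (τ * τ) := by
            rw [iotaP_mul_self, mul_one, map_mul, map_mul]
    rw [← pow_two, ← hsq, pow_orderOf_eq_one] at h1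
    exact ((conjP_fieldP_inj (by omega) (g := 1) (g' := g * mapGL τ (itGL g)) (σ := 1) (σ' := τ * τ)
      (by rw [map_one, map_one, one_mul]; exact h1)).1).symm
  have hτi : ∀ a, τ (τ a) = a := fun a => DFunLike.congr_fun hτ2 a
  by_cases hτ : τ = 1
  · subst hτ
    rw [map_one, mul_one] at hsq ⊢
    have hS := (graph_sq hn).1 hsq
    have hdet : ((g⁻¹ : GL (Fin n) F) : Mat n F).det ≠ 0 :=
      ((Matrix.isUnit_iff_isUnit_det _).1 (g⁻¹ : GL (Fin n) F).isUnit).ne_zero
    have hid : ∀ M : Mat n F, M.map (RingEquiv.refl F) = M := fun M => rfl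
    rcases FormData.sym_shape hS with ⟨h, -⟩ | ⟨h, -⟩
    · let D : FormData n F :=
        { σ := RingEquiv.refl F, S := ((g⁻¹ : GL (Fin n) F) : Mat n F), e := 1, invol := fun _ => rfl,
          det := hdet, shape := by rw [hid, h, one_smul], he := Or.inl rfl, two := h2 }
      rw [← D.aut_of_graph (h := g) rfl rfl]
      exact D.core_eq_bot_sym rfl h hn A hinn
    · obtain ⟨m, hm⟩ : Even n := by
        rcases Nat.even_or_odd n with he | ho
        · exact he
        exfalso
        have h1 := congrArg Matrix.det h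
        rw [det_transpose, det_neg, Fintype.card_fin, ho.neg_one_pow, neg_one_mul] at h1
        exact mul_ne_zero h2 hdet (by linear_combination h1)
      let D : FormData n F :=
        { σ := RingEquiv.refl F, S := ((g⁻¹ : GL (Fin n) F) : Mat n F), e := -1, invol := fun _ => rfl,
          det := hdet, shape := by rw [hid, h, neg_one_smul], he := Or.inr ⟨fun _ => rfl, rfl⟩, two := h2 }
      rw [← D.aut_of_graph (h := g) rfl rfl]
      exact D.core_eq_bot_of_iso hn
        (fun N hN => D.iso_normal_alt (m := m) (by omega) (by omega) rfl h N hN) A hinn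
  · have ho : orderOf τ = 2 := orderOf_eq_prime (by rw [pow_two, hτ2]) hτ
    have hβ : (conjP g * fieldP τ * iotaP : MulAut (PSLn n F)) = conjP g * gfP τ := mul_assoc _ _ _
    rw [hβ] at hsq ⊢
    obtain ⟨k, hk⟩ := gf_coset_conj hn ho (g := g) (by rw [← hsq]; exact pow_orderOf_eq_one _)
    rw [hk]
    let D : FormData n F :=
      { σ := τ, S := 1, e := 1, invol := hτi, det := by rw [det_one]; exact one_ne_zero,
        shape := by rw [Matrix.map_one _ (map_zero _) (map_one _), transpose_one, one_smul],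
        he := Or.inl rfl, two := h2 }
    have hD : D.aut = gfP τ := by
      rw [FormData.aut, show GeneralLinearGroup.mkOfDetNeZero D.S D.det = 1 from Units.ext rfl, inv_one,
        map_one, one_mul]
      rfl
    by_contra hne
    refine (Bal.core_transport 2 A (conjP k) (gfP τ)).1 hne ?_
    rw [← hD]
    exact D.core_eq_bot_of_iso hn (fun N hN => D.iso_normal_herm hn ho rfl N hN) _
      (Bal.inn_transport A _ hinn)

/-- **local balance for linear groups** -/
theorem balance {r : ℕ} [Fact r.Prime] [CharP F r] (hn : 2 ≤ n)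
    (A : Subgroup (MulAut (PSLn n F))) (hinn : ∀ k, MulAut.conj k ∈ A) (p : ℕ) [Fact p.Prime] (hpr : p ≠ r)
    (β : MulAut (PSLn n F)) (hord : orderOf β = p) (hnot : ¬ Cfsg.IsInnerDiagonalAutPSL β) :
    Cfsg.pPrimeCore p ↥(A ⊓ Subgroup.centralizer {β}) ≠ ⊥ ↔
      ((∃ γ φ : MulAut (PSLn n F), Cfsg.IsInnerDiagonalAutPSL γ ∧ Cfsg.IsFieldAutPSL φ ∧ β = φ.trans γ) ∧
        Nat.Coprime p (Nat.card ↥(MonoidHom.eqLocus β.toMonoidHom (MonoidHom.id (PSLn n F))))) := by
  classical
  have hp := (Fact.out : p.Prime)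
  obtain ⟨g, τ, γ, hγ, rfl⟩ := aut_PSL hn β
  rcases hγ with rfl | ⟨h3, rfl⟩
  · rw [mul_one] at hord hnot ⊢
    have hτ : τ ≠ 1 := fun e => hnot (isInnerDiagonal_iff.2 ⟨g, by rw [e, map_one, mul_one]⟩)
    have hτp : τ ^ p = 1 := by
      have h1 : (conjP g * fieldP τ) ^ p = 1 := hord ▸ pow_orderOf_eq_one _
      rw [conj_field_pow] at h1
      exact (conjP_fieldP_inj hn (g' := 1) (σ' := 1) (g := twProd τ g p) (σ := τ ^ p)
        (by rw [h1, map_one, map_one, one_mul])).1
    have ho : orderOf τ = p := orderOf_eq_prime hτp hτ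
    obtain ⟨k, hk⟩ := coset_conj hn (σ := τ) (g := g) (by rw [ho, ← hord]; exact pow_orderOf_eq_one _)
    have hex : ∃ γ φ : MulAut (PSLn n F), Cfsg.IsInnerDiagonalAutPSL γ ∧ Cfsg.IsFieldAutPSL φ ∧
        conjP g * fieldP τ = φ.trans γ :=
      ⟨conjP g, fieldP τ, isInnerDiagonal_iff.2 ⟨g, rfl⟩, ⟨τ, isStdField_iff.2 rfl⟩, rfl⟩
    rw [and_iff_right hex, hk]
    exact Bal.core_iff_transport p (conjP k) (fieldP τ)
      (fun B hB => field_core_iff hn hpr ho B hB) A hinn
  · obtain rfl : p = 2 := by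
      by_contra hp2
      exact not_odd_of_graph h3 g τ (hord ▸ hp.odd_of_ne_two hp2)
    have h2 : (2 : F) ≠ 0 := fun e => hpr ((Nat.prime_dvd_prime_iff_eq (Fact.out : r.Prime) Nat.prime_two).1
      ((CharP.cast_eq_zero_iff F r 2).1 (by exact_mod_cast e))).symm
    refine iff_of_false (not_not.2 (graph_core_bot h3 h2 g τ hord A hinn)) ?_
    rintro ⟨⟨γ', φ, hγ', hφ, he⟩, -⟩
    obtain ⟨g', rfl⟩ := isInnerDiagonal_iff.1 hγ'
    obtain ⟨σ, hσ⟩ := hφ
    have hφ' : φ = fieldP σ := isStdField_iff.1 hσ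
    have he' : conjP g * fieldP τ * iotaP = conjP g' * fieldP σ := by rw [he, hφ']; rfl
    refine iotaP_ne h3 (mapGL τ⁻¹ (g⁻¹ * g')) (τ⁻¹ * σ) ?_
    calc (iotaP : MulAut (PSLn n F))
        = (fieldP τ)⁻¹ * ((conjP g)⁻¹ * (conjP g * fieldP τ * iotaP)) := by group
      _ = (fieldP τ⁻¹ * conjP (g⁻¹ * g')) * fieldP σ := by rw [he', map_mul, map_inv, map_inv]; group
      _ = _ := by rw [fieldP_conjP, map_mul fieldP]; group

end PSLBal

end H43
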