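import Cfsg.Agent.H43.Bal.CompGen
import Mathlib

/-!
# Products of two reflections in an odd subgroup, any dimension at least four
-/

set_option autoImplicit false

namespace H43

namespace Bal

variable {K : Type*} [Field K] {V : Type*} [AddCommGroup V] [Module K V] [FiniteDimensional K V]
  {R : QuadraticForm K V} {X : Type*} [Group X] {ρ : orthGroup R →* X}
  (hker : ∀ h, ρ h = 1 → h = 1 ∨ h = negOrth R)

include hker

variable [Finite K]

/-- in dimension at least four an odd subgroup normalised by the reflections contains no product of two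
reflections -/
theorem near_eq_gen (hR : (polB R).Nondegenerate) (h2 : (2 : K) ≠ 0) (hd : 4 ≤ Module.finrank K V)
    (M : Subgroup X) (hMo : Odd (Nat.card M))
    (hnorm : ∀ h, ∀ m ∈ M, ρ h * m * (ρ h)⁻¹ ∈ M) {u w : V} (hu : R u ≠ 0) (hw : R w ≠ 0)
    (huw : ρ (refl R u * refl R w) ∈ M) : w ∈ K ∙ u := by
  by_contra hline
  have hne : ∀ {v : V}, R v ≠ 0 → v ≠ 0 := fun hv h => hv (by rw [h, map_zero])
  -- perpendicular pairs are excluded
  have hno : ∀ a b, R a ≠ 0 → R b ≠ 0 → polB R a b = 0 → ρ (refl R a * refl R b) ∉ M := by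
    intro a b ha hb hab hm
    have hsq : ρ (refl R a * refl R b) * ρ (refl R a * refl R b) = 1 := by
      rw [← map_mul, show refl R a * refl R b * (refl R a * refl R b) =
        refl R a * (refl R b * refl R a) * refl R b by simp only [mul_assoc],
        ← refl_pair_comm hab, ← mul_assoc, refl_sq, one_mul, refl_sq, map_one]
    have h1 : ρ (refl R a * refl R b) = 1 := by
      have hd2 : orderOf (⟨_, hm⟩ : M) ∣ 2 := orderOf_dvd_of_pow_eq_one (Subtype.ext (by
        rw [SubmonoidClass.coe_pow, pow_two]; exact hsq))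
      rcases (Nat.dvd_prime Nat.prime_two).1 hd2 with h | h
      · exact congrArg Subtype.val (orderOf_eq_one_iff.1 h)
      · exact absurd (h ▸ orderOf_dvd_natCard (⟨_, hm⟩ : M)) hMo.not_two_dvd_nat
    have h3 : refl R a * refl R b = 1 := by
      refine (hker _ h1).resolve_right fun e => ?_
      obtain ⟨z, hza, hzb, hz⟩ := exists_orth_pair_value hR h2 hd ha hb hab 1
      have e1 := congrArg (fun g : orthGroup R => g.1 z) e
      simp only [orth_mul_apply] at e1
      rw [refl_fix (v := b) (by rw [polB_comm]; exact hzb), refl_fix (v := a) (by rw [polB_comm]; exact hza)] at e1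
      have e2 : (2 : K) • z = 0 := by
        rw [show (negOrth R).1 z = -z from rfl] at e1
        linear_combination (norm := module) e1
      have hz0 := (smul_eq_zero.1 e2).resolve_left h2
      rw [hz0, map_zero] at hz
      exact one_ne_zero hz.symm
    rw [mul_eq_one_iff_eq_inv, refl_inv] at h3
    obtain ⟨l, hl⟩ := Submodule.mem_span_singleton.1 (mem_line_of_refl_eq h2 ha h3)
    rw [← hl, map_smul, LinearMap.smul_apply, polB_self, smul_eq_mul] at hab
    have hl0 : l ≠ 0 := fun e => hne ha (by rw [← hl, e, zero_smul])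
    exact mul_ne_zero hl0 (mul_ne_zero h2 hb) hab
  set al := polB R u w * (2 * R u)⁻¹ with hal
  set v₀ := w - al • u with hv₀
  have hperp : polB R u v₀ = 0 := by
    rw [hv₀, map_sub, map_smul, polB_self, smul_eq_mul, hal, mul_assoc,
      inv_mul_cancel₀ (mul_ne_zero h2 hu), mul_one, sub_self]
  have hv00 : v₀ ≠ 0 := fun h => hline (Submodule.mem_span_singleton.2 ⟨al, (sub_eq_zero.1 h).symm⟩)
  have hw' : w = al • u + v₀ := by rw [hv₀]; abel
  have hnotmem : ∀ {x : V}, polB R u x = 0 → x ≠ 0 → x ∉ K ∙ u := by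
    intro x hx hx0 h
    obtain ⟨a, rfl⟩ := Submodule.mem_span_singleton.1 h
    rw [map_smul, polB_self, smul_eq_mul, mul_eq_zero] at hx
    rcases hx with e | e
    · exact hx0 (by rw [e, zero_smul])
    · exact mul_ne_zero h2 hu e
  set t : K := -(2 * (al * al) * R u) with ht
  obtain ⟨v', hv'u, hv'0, hv'R, hv'B⟩ : ∃ v', polB R u v' = 0 ∧ v' ≠ 0 ∧ R v' = R v₀ ∧ polB R v₀ v' = t := by
    by_cases hQ0 : R v₀ = 0
    · obtain ⟨f, hp, hf⟩ := exists_hypPair_orth hR hQ0 (hnotmem hperp hv00) (fun y hy => by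
        obtain ⟨a, rfl⟩ := Submodule.mem_span_singleton.1 hy
        simp [hperp])
      have hal0 : al ≠ 0 := fun h => hw (by rw [hw', h, zero_smul, zero_add, hQ0])
      have ht0 : t ≠ 0 := by
        rw [ht, neg_ne_zero]; exact mul_ne_zero (mul_ne_zero h2 (mul_ne_zero hal0 hal0)) hu
      refine ⟨t • f, ?_, smul_ne_zero ht0 hp.symm.left_ne_zero, ?_, ?_⟩
      · rw [map_smul, hf u (Submodule.mem_span_singleton_self u), smul_zero]
      · rw [qmap_smul, hp.right, mul_zero, hQ0]
      · rw [map_smul, hp.pair, smul_eq_mul, mul_one]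
    · set l := t * (2 * R v₀)⁻¹ with hl
      obtain ⟨z, hzu, hzv, hz⟩ := exists_orth_pair_value hR h2 hd hu hQ0 hperp ((1 - l * l) * R v₀)
      have e : R (l • v₀ + z) = R v₀ := by
        rw [qmap_add, qmap_smul, map_smul, LinearMap.smul_apply, hzv, hz, smul_zero]; ring
      refine ⟨l • v₀ + z, by simp [hperp, hzu], fun h => hQ0 (by rw [← e, h, map_zero]), e, ?_⟩
      rw [map_add, map_smul, polB_self, hzv, add_zero, smul_eq_mul, hl, mul_assoc,
        inv_mul_cancel₀ (mul_ne_zero h2 hQ0), mul_one]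
  have hli : ∀ {x : V}, polB R u x = 0 → x ≠ 0 → LinearIndependent K ![u, x] := fun hx hx0 => by
    rw [LinearIndependent.pair_iff]
    intro s r hsr
    have h1 := congrArg (fun y => polB R u y) hsr
    simp only [map_add, map_smul, hx, polB_self, smul_eq_mul, mul_zero, add_zero, map_zero] at h1
    have hs : s = 0 := (mul_eq_zero.1 h1).resolve_right (mul_ne_zero h2 hu)
    rw [hs, zero_smul, zero_add] at hsr
    exact ⟨hs, (smul_eq_zero.1 hsr).resolve_right hx0⟩
  obtain ⟨h, hhu, hhv⟩ := exists_orth_map₂ hR (hli hperp hv00) (hli hv'u hv'0) rfl hv'R.symm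
    (by rw [hperp, hv'u])
  have hhw : h.1 w = al • u + v' := by rw [hw', map_add, map_smul, hhu, hhv]
  have horth : polB R w (h.1 w) = 0 := by
    rw [hhw, hw']
    simp only [map_add, map_smul, LinearMap.add_apply, LinearMap.smul_apply, smul_eq_mul, polB_self,
      hv'u, hv'B, polB_comm v₀ u, hperp, ht]
    ring
  have hm2 : ρ (refl R u * refl R (h.1 w)) ∈ M := by
    have := hnorm h _ huw
    rwa [← map_inv, ← map_mul, ← map_mul, show h * (refl R u * refl R w) * h⁻¹ =
      (h * refl R u * h⁻¹) * (h * refl R w * h⁻¹) by group, refl_conj, refl_conj, hhu] at this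
  refine hno w (h.1 w) hw (by rw [orth_qmap]; exact hw) horth ?_
  have e : refl R w * refl R (h.1 w) = (refl R u * refl R w)⁻¹ * (refl R u * refl R (h.1 w)) := by
    rw [_root_.mul_inv_rev, refl_inv, refl_inv, mul_assoc, ← mul_assoc (refl R u), refl_sq, one_mul]
  rw [e, map_mul, map_inv]
  exact M.mul_mem (M.inv_mem huw) hm2

end Bal

end H43
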