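import Cfsg.Agent.H55.PSLAutUnique
import Cfsg.Agent.H43.Bal.GraphCore
import Mathlib

/-!
# Involutions on non-degenerate planes
-/

set_option autoImplicit false

namespace H43

namespace PSLBal

open Matrix H55

variable {F : Type*} [Field F] {n : ℕ}

/-- a non-degenerate form, symmetric, alternating or Hermitian -/
structure FormData (n : ℕ) (F : Type*) [Field F] where
  σ : F ≃+* F
  S : Mat n F
  e : F
  invol : ∀ a, σ (σ a) = a
  det : S.det ≠ 0
  shape : (S.map σ)ᵀ = e • S
  he : e = 1 ∨ ((∀ a, σ a = a) ∧ e = -1)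
  two : (2 : F) ≠ 0

namespace FormData

variable (D : FormData n F)

theorem e_sq : D.e * D.e = 1 := by rcases D.he with h | ⟨-, h⟩ <;> simp [h]

/-- the sesquilinear form -/
def B (u v : Fin n → F) : F := (fun i => D.σ (u i)) ⬝ᵥ (D.S *ᵥ v)

theorem B_flip (u v : Fin n → F) : D.B v u = D.e * D.σ (D.B u v) := by
  have h1 : D.σ (D.B u v) = u ⬝ᵥ ((D.S.map D.σ) *ᵥ fun i => D.σ (v i)) := by
    rw [B, ← RingEquiv.coe_toRingHom, RingHom.map_dotProduct]
    congr 1
    · funext i; exact D.invol _
    · funext i; exact RingHom.map_mulVec (D.σ : F →+* F) _ _ _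
  rw [h1, dotProduct_mulVec, dotProduct_comm, ← mulVec_transpose, D.shape, smul_mulVec, dotProduct_smul,
    smul_eq_mul, ← mul_assoc, D.e_sq, one_mul]
  rfl

theorem B_add_right (u v w : Fin n → F) : D.B u (v + w) = D.B u v + D.B u w := by
  simp only [B, mulVec_add, dotProduct_add]

theorem B_sub_right (u v w : Fin n → F) : D.B u (v - w) = D.B u v - D.B u w := by
  simp only [B, mulVec_sub, dotProduct_sub]

theorem B_smul_right (u v : Fin n → F) (c : F) : D.B u (c • v) = c * D.B u v := by
  simp only [B, mulVec_smul, dotProduct_smul, smul_eq_mul]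

theorem B_add_left (u v w : Fin n → F) : D.B (u + v) w = D.B u w + D.B v w := by
  simp only [B, ← add_dotProduct]
  congr 1
  funext i
  simp

theorem B_smul_left (u w : Fin n → F) (c : F) : D.B (c • u) w = D.σ c * D.B u w := by
  simp only [B, ← smul_eq_mul (D.σ c), ← smul_dotProduct]
  congr 1
  funext i
  simp

theorem exists_B_eq {u : Fin n → F} (hu : u ≠ 0) (c : F) : ∃ v, D.B u v = c := by
  classical
  have hinj : Function.Injective D.S.vecMul :=
    Matrix.vecMul_injective_iff_isUnit.2 ((Matrix.isUnit_iff_isUnit_det _).2 (isUnit_iff_ne_zero.2 D.det))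
  have h0 : (fun i => D.σ (u i)) ᵥ* D.S ≠ 0 := fun h => hu (funext fun i => D.σ.injective (by
    have h2 := hinj (a₁ := fun i => D.σ (u i)) (a₂ := 0) (by simp only [Matrix.zero_vecMul]; exact h)
    exact (congrFun h2 i).trans (map_zero D.σ).symm))
  obtain ⟨i, hi⟩ := Function.ne_iff.1 h0
  refine ⟨(c * (((fun i => D.σ (u i)) ᵥ* D.S) i)⁻¹) • Pi.single i 1, ?_⟩
  rw [B, dotProduct_mulVec, dotProduct_smul, dotProduct_single, mul_one, smul_eq_mul, mul_assoc,
    inv_mul_cancel₀ hi, mul_one]

/-- the matrix with two given columns -/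
def cols (u v : Fin n → F) : Matrix (Fin n) (Fin 2) F := Matrix.of fun i k => ![u, v] k i

/-- the Gram matrix of a pair -/
def gram (u v : Fin n → F) : Matrix (Fin 2) (Fin 2) F := ((cols u v).map D.σ)ᵀ * D.S * cols u v

theorem gram_apply (u v : Fin n → F) (k l : Fin 2) : D.gram u v k l = D.B (![u, v] k) (![u, v] l) := by
  rw [gram, Matrix.mul_assoc, B]
  rfl

theorem det_gram (u v : Fin n → F) :
    (D.gram u v).det = D.B u u * D.B v v - D.B u v * D.B v u := by
  simp [det_fin_two, gram_apply]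

/-- the projection to a non-degenerate plane -/
noncomputable def proj (u v : Fin n → F) : Mat n F :=
  cols u v * (D.gram u v)⁻¹ * ((cols u v).map D.σ)ᵀ * D.S

/-- the involution negating a non-degenerate plane -/
noncomputable def jMat (u v : Fin n → F) : Mat n F := 1 - (2 : F) • D.proj u v

variable {u v : Fin n → F} (hd : (D.gram u v).det ≠ 0)

include hd

theorem proj_cols : D.proj u v * cols u v = cols u v := by
  rw [proj, Matrix.mul_assoc, Matrix.mul_assoc (cols u v * (D.gram u v)⁻¹),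
    show ((cols u v).map D.σ)ᵀ * (D.S * cols u v) = D.gram u v from (Matrix.mul_assoc _ _ _).symm,
    Matrix.mul_assoc, Matrix.nonsing_inv_mul _ (isUnit_iff_ne_zero.2 hd), Matrix.mul_one]

theorem proj_sq : D.proj u v * D.proj u v = D.proj u v := by
  conv_lhs => enter [2]; rw [proj]
  rw [← Matrix.mul_assoc, ← Matrix.mul_assoc, ← Matrix.mul_assoc, D.proj_cols hd, proj]

theorem jMat_sq : D.jMat u v * D.jMat u v = 1 := by
  rw [jMat, Matrix.mul_sub, Matrix.sub_mul, Matrix.sub_mul, Matrix.one_mul, Matrix.one_mul, Matrix.mul_one,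
    Matrix.smul_mul, Matrix.mul_smul, D.proj_sq hd, smul_smul]
  module

theorem proj_adjoint : ((D.proj u v).map D.σ)ᵀ * D.S = D.S * D.proj u v := by
  have hG : ((D.gram u v).map D.σ)ᵀ = D.e • D.gram u v := by
    ext k l
    rw [transpose_apply, Matrix.map_apply, Matrix.smul_apply, gram_apply, gram_apply, smul_eq_mul,
      D.B_flip (![u, v] l) (![u, v] k), ← mul_assoc, D.e_sq, one_mul]
  have hinv : (((D.gram u v)⁻¹).map D.σ)ᵀ = D.e • (D.gram u v)⁻¹ := by
    have h1 : ((D.gram u v).map D.σ)⁻¹ = ((D.gram u v)⁻¹).map D.σ :=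
      Matrix.inv_eq_left_inv (by
        rw [← Matrix.map_mul, Matrix.nonsing_inv_mul _ (isUnit_iff_ne_zero.2 hd),
          Matrix.map_one _ (map_zero _) (map_one _)])
    rw [← h1, Matrix.transpose_nonsing_inv, hG]
    refine Matrix.inv_eq_left_inv ?_
    rw [Matrix.smul_mul, Matrix.mul_smul, smul_smul, D.e_sq, one_smul,
      Matrix.nonsing_inv_mul _ (isUnit_iff_ne_zero.2 hd)]
  have hcols : (((cols u v).map D.σ)ᵀ).map D.σ = (cols u v)ᵀ := by
    ext k i
    simp [D.invol]
  have h1 : (D.proj u v).map D.σ =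
      (cols u v).map D.σ * ((D.gram u v)⁻¹).map D.σ * (cols u v)ᵀ * D.S.map D.σ := by
    rw [proj, Matrix.map_mul, Matrix.map_mul, Matrix.map_mul, hcols]
  rw [h1, transpose_mul, transpose_mul, transpose_mul, transpose_transpose, hinv, D.shape, proj]
  simp only [Matrix.smul_mul, Matrix.mul_smul, smul_smul, D.e_sq, one_smul, Matrix.mul_assoc]

theorem jMat_isometry : ((D.jMat u v).map D.σ)ᵀ * D.S * D.jMat u v = D.S := by
  have h1 : ((D.jMat u v).map D.σ)ᵀ = 1 - (2 : F) • ((D.proj u v).map D.σ)ᵀ := by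
    ext i k
    simp [jMat, one_apply, apply_ite D.σ, eq_comm, map_ofNat]
  have h2 : (1 - (2 : F) • ((D.proj u v).map D.σ)ᵀ) * D.S = D.S * D.jMat u v := by
    rw [jMat, Matrix.sub_mul, Matrix.mul_sub, Matrix.one_mul, Matrix.mul_one, Matrix.smul_mul,
      Matrix.mul_smul, D.proj_adjoint hd]
  rw [h1, h2, Matrix.mul_assoc, D.jMat_sq hd, Matrix.mul_one]

theorem jMat_det : (D.jMat u v).det = 1 := by
  set X := (2 : F) • ((D.gram u v)⁻¹ * ((cols u v).map D.σ)ᵀ * D.S)
  have h1 : D.jMat u v = 1 - cols u v * X := by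
    rw [jMat, proj]
    simp only [X, Matrix.mul_smul, Matrix.mul_assoc]
  have h2 : X * cols u v = (2 : F) • (1 : Matrix (Fin 2) (Fin 2) F) := by
    simp only [X, Matrix.smul_mul, Matrix.mul_assoc]
    congr 1
    rw [show ((cols u v).map D.σ)ᵀ * (D.S * cols u v) = D.gram u v from (Matrix.mul_assoc _ _ _).symm,
      Matrix.nonsing_inv_mul _ (isUnit_iff_ne_zero.2 hd)]
  rw [h1, det_one_sub_mul_comm, h2, det_fin_two]
  simp
  ring

theorem jMat_fixed_iff (w : Fin n → F) : D.jMat u v *ᵥ w = -w ↔ w ∈ Submodule.span F {u, v} := by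
  constructor
  · intro h
    rw [jMat, sub_mulVec, one_mulVec, smul_mulVec] at h
    have h2 : D.proj u v *ᵥ w = w := by
      have h3 : (2 : F) • (D.proj u v *ᵥ w) = (2 : F) • w := by
        linear_combination (norm := module) -h
      have h4 := congrArg (fun z => (2 : F)⁻¹ • z) h3
      simpa [smul_smul, inv_mul_cancel₀ D.two] using h4
    rw [proj, Matrix.mul_assoc, Matrix.mul_assoc, ← mulVec_mulVec] at h2
    rw [← h2, Submodule.mem_span_pair]
    refine ⟨(((D.gram u v)⁻¹ * (((cols u v).map D.σ)ᵀ * D.S)) *ᵥ w) 0,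
      (((D.gram u v)⁻¹ * (((cols u v).map D.σ)ᵀ * D.S)) *ᵥ w) 1, ?_⟩
    funext i
    show _ = ∑ k, cols u v i k * _
    simp [Fin.sum_univ_two, cols, mul_comm]
  · intro h
    have hfix : ∀ k : Fin 2, D.proj u v *ᵥ (![u, v] k) = ![u, v] k := fun k => by
      funext i
      have := congrFun (congrFun (D.proj_cols hd) i) k
      simpa [Matrix.mul_apply, cols, mulVec, dotProduct] using this
    obtain ⟨a, b, rfl⟩ := Submodule.mem_span_pair.1 h
    have hu := hfix 0
    have hv := hfix 1
    simp only [cons_val_zero, cons_val_one] at hu hv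
    rw [jMat, sub_mulVec, one_mulVec, smul_mulVec, mulVec_add, mulVec_smul, mulVec_smul, hu, hv]
    module

omit hd

/-- an anisotropic vector orthogonal to the given orthogonal anisotropic vectors -/
theorem exists_aniso (he : D.e = 1) {u v z : Fin n → F} (hu : D.B u u ≠ 0)
    (hv : D.B v v ≠ 0 ∨ v = 0) (huv : D.B u v = 0) (hz : z ≠ 0) (hzu : D.B u z = 0) (hzv : D.B v z = 0) :
    ∃ w, D.B u w = 0 ∧ D.B v w = 0 ∧ D.B w w ≠ 0 := by
  by_cases hzz : D.B z z = 0
  swap
  · exact ⟨z, hzu, hzv, hzz⟩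
  obtain ⟨x, hx⟩ := D.exists_B_eq hz 1
  have hflip : ∀ {a b}, D.B a b = 0 → D.B b a = 0 := fun h => by rw [D.B_flip, h, map_zero, mul_zero]
  set x' := x - (D.B u x * (D.B u u)⁻¹) • u - (D.B v x * (D.B v v)⁻¹) • v
  have h1 : D.B u x' = 0 := by
    simp only [x', B_sub_right, B_smul_right, huv, mul_zero, sub_zero]
    rw [mul_assoc, inv_mul_cancel₀ hu, mul_one, sub_self]
  have h2 : D.B v x' = 0 := by
    simp only [x', B_sub_right, B_smul_right, hflip huv, mul_zero, sub_zero]
    rcases hv with hv | rfl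
    · rw [mul_assoc, inv_mul_cancel₀ hv, mul_one, sub_self]
    · have h0 : ∀ w, D.B 0 w = 0 := fun w => by
        rw [← zero_smul F (0 : Fin n → F), B_smul_left, map_zero, zero_mul]
      simp [h0]
  have h3 : D.B z x' = 1 := by
    simp only [x', B_sub_right, B_smul_right, hflip hzu, hflip hzv, hx, mul_zero, sub_zero]
  by_cases hxx : D.B x' x' = 0
  swap
  · exact ⟨x', h1, h2, hxx⟩
  refine ⟨z + x', by rw [B_add_right, hzu, h1, add_zero], by rw [B_add_right, hzv, h2, add_zero], ?_⟩
  rw [B_add_right, B_add_left, B_add_left, hzz, hxx, h3, D.B_flip z x', h3, map_one, he]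
  simpa [one_add_one_eq_two] using D.two

theorem exists_ne_kernel (hn : 3 ≤ n) (a b : Fin n → F) : ∃ z : Fin n → F, z ≠ 0 ∧ D.B a z = 0 ∧ D.B b z = 0 := by
  let f : (Fin n → F) →ₗ[F] F × F :=
    { toFun := fun z => (D.B a z, D.B b z)
      map_add' := fun x y => by simp [B_add_right]
      map_smul' := fun c x => by simp [B_smul_right] }
  obtain ⟨z, hz, hz0⟩ := Submodule.exists_mem_ne_zero_of_ne_bot (p := LinearMap.ker f) (fun h => by
    have h1 := LinearMap.finrank_le_finrank_of_injective (LinearMap.ker_eq_bot.1 h)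
    rw [Module.finrank_fin_fun, Module.finrank_prod, Module.finrank_self] at h1
    omega)
  exact ⟨z, hz0, congrArg Prod.fst hz, congrArg Prod.snd hz⟩

/-- every line is the intersection of two non-degenerate planes -/
theorem exists_planes (hn : 3 ≤ n) {u : Fin n → F} (hu : u ≠ 0) :
    ∃ v v', (D.gram u v).det ≠ 0 ∧ (D.gram u v').det ≠ 0 ∧ v' ∉ Submodule.span F {u, v} := by
  by_cases huu : D.B u u = 0
  · have hgood : ∀ v, D.B u v = 1 → (D.gram u v).det ≠ 0 := fun v hv => by
      rw [det_gram, huu, hv, D.B_flip u v, hv, zero_mul, zero_sub, one_mul, map_one, mul_one, neg_ne_zero]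
      exact left_ne_zero_of_mul_eq_one D.e_sq
    obtain ⟨v, hv⟩ := D.exists_B_eq hu 1
    obtain ⟨i, hi⟩ := Function.ne_iff.1 hu
    -- a vector orthogonal to `u` outside its line
    let f : (Fin n → F) →ₗ[F] F × F :=
      { toFun := fun z => (D.B u z, z i)
        map_add' := fun x y => by simp [B_add_right]
        map_smul' := fun c x => by simp [B_smul_right] }
    obtain ⟨z, hz, hz0⟩ := Submodule.exists_mem_ne_zero_of_ne_bot (p := LinearMap.ker f) (fun h => by
      have h1 := LinearMap.finrank_le_finrank_of_injective (LinearMap.ker_eq_bot.1 h)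
      rw [Module.finrank_fin_fun, Module.finrank_prod, Module.finrank_self] at h1
      omega)
    have hz1 : D.B u z = 0 := congrArg Prod.fst hz
    have hz2 : z i = 0 := congrArg Prod.snd hz
    refine ⟨v, v + z, hgood v hv, hgood _ (by rw [B_add_right, hv, hz1, add_zero]), fun hmem => ?_⟩
    obtain ⟨a, b, hab⟩ := Submodule.mem_span_pair.1 hmem
    have h1 := congrArg (D.B u) hab
    rw [B_add_right, B_add_right, B_smul_right, B_smul_right, huu, hv, hz1] at h1
    simp at h1
    rw [h1, one_smul, add_comm, add_right_inj] at hab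
    have h2 := congrFun hab i
    rw [hz2, Pi.smul_apply, smul_eq_mul, mul_eq_zero] at h2
    rw [h2.resolve_right (by simpa using hi), zero_smul] at hab
    exact hz0 hab.symm
  · have he : D.e = 1 := D.he.resolve_right fun ⟨hσ, he⟩ => huu (by
      have h1 := D.B_flip u u
      rw [he, hσ] at h1
      have h2 : (2 : F) * D.B u u = 0 := by linear_combination h1
      exact (mul_eq_zero.1 h2).resolve_left D.two)
    have h0 : ∀ w, D.B (0 : Fin n → F) w = 0 := fun w => by
      rw [← zero_smul F (0 : Fin n → F), B_smul_left, map_zero, zero_mul]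
    obtain ⟨z, hz0, hz, -⟩ := D.exists_ne_kernel hn u 0
    obtain ⟨v, hv, -, hvv⟩ := D.exists_aniso he huu (Or.inr rfl) (by simp [B]) hz0 hz (h0 _)
    obtain ⟨z', hz0', hz', hz''⟩ := D.exists_ne_kernel hn u v
    obtain ⟨w, hw, hvw, hww⟩ := D.exists_aniso he huu (Or.inl hvv) hv hz0' hz' hz''
    have hgood : ∀ {x}, D.B u x = 0 → D.B x x ≠ 0 → (D.gram u x).det ≠ 0 := fun h hx => by
      rw [det_gram, h, zero_mul, sub_zero]; exact mul_ne_zero huu hx
    refine ⟨v, w, hgood hv hvv, hgood hw hww, fun hmem => ?_⟩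
    obtain ⟨a, b, hab⟩ := Submodule.mem_span_pair.1 hmem
    have hwu : D.B w u = 0 := by rw [D.B_flip, hw, map_zero, mul_zero]
    have hwv : D.B w v = 0 := by rw [D.B_flip, hvw, map_zero, mul_zero]
    have h1 := congrArg (D.B w) hab
    rw [B_add_right, B_smul_right, B_smul_right, hwu, hwv, mul_zero, mul_zero, zero_add] at h1
    exact hww h1.symm

/-- an involution in `SL` -/
noncomputable def jSL (u v : Fin n → F) (hd : (D.gram u v).det ≠ 0) : SLn n F := ⟨D.jMat u v, D.jMat_det hd⟩

end FormData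

end PSLBal

end H43
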