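import Cfsg.Agent.H43.PSLBal.Forms
import Cfsg.Agent.H43.PSLBal.Near
import Mathlib

/-!
# Odd cores at graph automorphisms of orthogonal type
-/

set_option autoImplicit false

namespace H43

namespace PSLBal

open Matrix H55

variable {F : Type*} [Field F] {n : ℕ}

/-- the matrix of an invertible linear map of column vectors -/
noncomputable def glOfEquiv : ((Fin n → F) ≃ₗ[F] (Fin n → F)) →* GL (Fin n) F :=
  (GeneralLinearGroup.toLin (n := Fin n) (R := F)).symm.toMonoidHom.comp
    (LinearMap.GeneralLinearGroup.generalLinearEquiv F (Fin n → F)).symm.toMonoidHom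

theorem glOfEquiv_mulVec (f : (Fin n → F) ≃ₗ[F] (Fin n → F)) (v : Fin n → F) :
    (glOfEquiv f : Mat n F) *ᵥ v = f v :=
  Eq.trans rfl (LinearMap.congr_fun (Matrix.toLinAlgEquiv'.apply_symm_apply (f : (Fin n → F) →ₗ[F] Fin n → F)) v)

namespace FormData

variable (D : FormData n F)

/-- the quadratic form of a bilinear form datum -/
noncomputable def qform : QuadraticForm F (Fin n → F) :=
  (Matrix.toBilin' D.S).toQuadraticMap

section

variable (hσ : D.σ = RingEquiv.refl F) (hS : D.Sᵀ = D.S)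

include hσ in
omit hS in
theorem qform_apply (v : Fin n → F) : D.qform v = D.B v v := by
  rw [qform, LinearMap.BilinMap.toQuadraticMap_apply, Matrix.toBilin'_apply', B, hσ]
  rfl

include hσ in
omit hS in
theorem B_eq (u v : Fin n → F) : D.B u v = u ⬝ᵥ (D.S *ᵥ v) := by
  rw [B, hσ]
  rfl

include hσ hS in
theorem B_comm (u v : Fin n → F) : D.B u v = D.B v u := by
  rw [D.B_eq hσ, D.B_eq hσ, dotProduct_comm v, dotProduct_mulVec, ← mulVec_transpose, hS]

include hσ hS in
theorem qform_polB (u v : Fin n → F) : polB D.qform u v = 2 * D.B u v := by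
  rw [polB_apply, QuadraticMap.polar, D.qform_apply hσ, D.qform_apply hσ, D.qform_apply hσ, B_add_left,
    B_add_right, B_add_right, D.B_comm hσ hS v u]
  ring

include hσ hS in
theorem qform_nondeg : (polB D.qform).Nondegenerate := by
  refine ⟨fun v hv => ?_, fun v hv => ?_⟩ <;>
  · by_contra h
    obtain ⟨w, hw⟩ := D.exists_B_eq h 1
    have h1 := hv w
    first
      | rw [D.qform_polB hσ hS, hw, mul_one] at h1
      | rw [D.qform_polB hσ hS, D.B_comm hσ hS, hw, mul_one] at h1
    exact D.two h1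

/-- the action of the isometries on the projective group -/
noncomputable def act : orthGroup D.qform →* MulAut (PSLn n F) :=
  conjP.comp (glOfEquiv.comp (orthGroup D.qform).subtype)

include hσ hS in
theorem orth_matrix (g : orthGroup D.qform) :
    (glOfEquiv g.1 : Mat n F)ᵀ * D.S * (glOfEquiv g.1 : Mat n F) = D.S := by
  apply Matrix.toBilin'.injective
  refine LinearMap.ext₂ fun u v => ?_
  rw [Matrix.toBilin'_apply', Matrix.toBilin'_apply', ← mulVec_mulVec, ← mulVec_mulVec,
    dotProduct_mulVec u (glOfEquiv g.1 : Mat n F)ᵀ, vecMul_transpose, glOfEquiv_mulVec, glOfEquiv_mulVec,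
    ← D.B_eq hσ, ← D.B_eq hσ]
  have h := orth_polB_map g u v
  rw [D.qform_polB hσ hS, D.qform_polB hσ hS] at h
  exact mul_left_cancel₀ D.two h

include hσ hS in
theorem act_comm [Fintype F] (g : orthGroup D.qform) : D.act g * D.aut = D.aut * D.act g := by
  set G := glOfEquiv g.1
  set h := GeneralLinearGroup.mkOfDetNeZero D.S D.det with hh
  rw [D.aut_of_graph (h := h⁻¹) hσ (by rw [inv_inv]; rfl), show D.act g = conjP G from rfl,
    mul_assoc (conjP h⁻¹) iotaP (conjP G), iotaP_conjP, ← mul_assoc, ← mul_assoc, ← map_mul, ← map_mul]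
  congr 2
  have e : G * h⁻¹ = h⁻¹ * itGL G := by
    rw [mul_inv_eq_iff_eq_mul, mul_assoc, eq_inv_mul_iff_mul_eq]
    apply Units.ext
    simp only [Units.val_mul, coe_itGL]
    have h1 := D.orth_matrix hσ hS g
    calc D.S * (G : Mat n F) = ((G⁻¹ : GL (Fin n) F) : Mat n F)ᵀ * ((G : Mat n F)ᵀ * D.S * (G : Mat n F)) := by
          rw [← Matrix.mul_assoc, ← Matrix.mul_assoc, ← transpose_mul, GL_mul_inv, transpose_one, Matrix.one_mul]
      _ = _ := by rw [h1]; rfl
  rw [e]

include hσ hS in
theorem act_ker [Fintype F] (hn : 2 ≤ n) (g : orthGroup D.qform) (hg : D.act g = 1) :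
    g = 1 ∨ g = negOrth D.qform := by
  obtain ⟨c, hc⟩ := (conjP_eq_one_iff hn).1 (show conjP (glOfEquiv g.1) = 1 from hg)
  have happ : ∀ v, g.1 v = (c : F) • v := fun v => by
    rw [← glOfEquiv_mulVec g.1 v, hc, GeneralLinearGroup.coe_scalar, scalar_apply, ← smul_one_eq_diagonal,
      smul_mulVec, one_mulVec]
  obtain ⟨v, hv⟩ : ∃ v, D.qform v = 1 :=
    exists_qmap_eq (D.qform_nondeg hσ hS) (by rw [Module.finrank_fin_fun]; exact hn) 1 one_ne_zero
  have h1 := g.2 v
  rw [happ, qmap_smul, hv, mul_one] at h1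
  rcases mul_self_eq_one_iff.1 h1 with h | h
  · exact Or.inl (orth_ext fun w => by rw [happ, h, one_smul]; rfl)
  · exact Or.inr (orth_ext fun w => by rw [happ, h, neg_one_smul]; rfl)

variable [Fintype F]

include hσ hS in
/-- **no odd core at a graph automorphism of orthogonal type** -/
theorem core_eq_bot_sym (hn : 3 ≤ n) (A : Subgroup (MulAut (PSLn n F))) (hinn : ∀ k, MulAut.conj k ∈ A) :
    Cfsg.pPrimeCore 2 ↥(A ⊓ Subgroup.centralizer ({D.aut} : Set (MulAut (PSLn n F)))) = ⊥ := by
  classical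
  refine D.core_eq_bot hn D.aut (fun u v hd => D.aut_fix (D.jSL_mem u v hd)) ?_ A hinn
  intro M hMo hMfix hMinv m hm
  suffices hm1 : m = 1 by intro u v hd; rw [hm1, one_mul, inv_one, mul_one]
  have hinj := conj_psl_inj (F := F) (n := n) (by omega)
  have hR := D.qform_nondeg hσ hS
  set M' := M.map (MulAut.conj : PSLn n F →* MulAut (PSLn n F))
  have hMo' : Odd (Nat.card M') := by
    rw [← Nat.card_congr (Subgroup.equivMapOfInjective M _ hinj).toEquiv]
    exact hMo
  have hnorm : ∀ g : orthGroup D.qform, ∀ a ∈ M', D.act g * a * (D.act g)⁻¹ ∈ M' := by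
    rintro g _ ⟨b, hb, rfl⟩
    exact ⟨D.act g b, hMinv _ (D.act_comm hσ hS g) b hb, (Bal.aut_conj _ _).symm⟩
  have hker := D.act_ker hσ hS (by omega)
  obtain ⟨s, rfl⟩ := pmk_surjective m
  obtain ⟨c, hc⟩ := D.exists_similitude (hMfix _ hm)
  have hc0 := D.similitude_ne (by omega) hc
  set ti := ((s⁻¹ : SLn n F) : Mat n F)
  have hst : (s : Mat n F) * ti = 1 := by
    rw [← Matrix.SpecialLinearGroup.coe_mul, mul_inv_cancel, Matrix.SpecialLinearGroup.coe_one]
  have hts : ti * (s : Mat n F) = 1 := by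
    rw [← Matrix.SpecialLinearGroup.coe_mul, inv_mul_cancel, Matrix.SpecialLinearGroup.coe_one]
  have hBt : ∀ u v, D.B u v = c * D.B (ti *ᵥ u) (ti *ᵥ v) := fun u v => by
    rw [D.B_eq hσ, D.B_eq hσ]
    conv_lhs => rw [← one_mulVec u, ← one_mulVec v, ← hst, ← mulVec_mulVec, ← mulVec_mulVec]
    rw [← smul_eq_mul, ← dotProduct_smul, ← smul_mulVec, ← hc,
      show (s : Mat n F).map D.σ = (s : Mat n F) by rw [hσ]; rfl, ← mulVec_mulVec, ← mulVec_mulVec,
      dotProduct_mulVec (ti *ᵥ u) (s : Mat n F)ᵀ, vecMul_transpose]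
  let T : (Fin n → F) →+ (Fin n → F) :=
    { toFun := fun u => ti *ᵥ u, map_zero' := mulVec_zero _, map_add' := mulVec_add _ }
  have hlines : ∀ u, D.qform u ≠ 0 → ∃ l : F, T u = l • u := by
    intro u hu
    have hu' : D.qform (T u) ≠ 0 := fun h => hu (by
      rw [D.qform_apply hσ] at h ⊢
      rw [hBt, show ti *ᵥ u = T u from rfl, h, mul_zero])
    have hrefl : glOfEquiv (refl D.qform (T u)).1 * (Matrix.SpecialLinearGroup.toGL s)⁻¹ =
        (Matrix.SpecialLinearGroup.toGL s)⁻¹ * glOfEquiv (refl D.qform u).1 := by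
      apply Units.ext
      rw [Units.val_mul, Units.val_mul, ← map_inv]
      refine Matrix.ext_of_mulVec_single fun i => ?_
      rw [← mulVec_mulVec, ← mulVec_mulVec, glOfEquiv_mulVec, glOfEquiv_mulVec, refl_apply, refl_apply,
        D.qform_apply hσ, D.qform_apply hσ, D.qform_polB hσ hS, D.qform_polB hσ hS]
      generalize (Pi.single i (1 : F) : Fin n → F) = x
      show ti *ᵥ x - _ • (ti *ᵥ u) = ti *ᵥ (x - _ • u)
      rw [mulVec_sub, mulVec_smul, hBt x u, hBt u u]
      congr 2
      show (D.B (ti *ᵥ u) (ti *ᵥ u))⁻¹ * _ = _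
      field_simp
      rfl
    have hmem : D.act (refl D.qform (T u) * refl D.qform u) ∈ M' := by
      have h1 : D.act (refl D.qform (T u) * refl D.qform u) =
          (MulAut.conj (pmk s))⁻¹ * (D.act (refl D.qform u) * MulAut.conj (pmk s) *
            (D.act (refl D.qform u))⁻¹) := by
        rw [map_mul, ← map_inv D.act, refl_inv, ← conjP_toGL]
        have h2 := congrArg conjP hrefl
        rw [map_mul, map_mul, map_inv, mul_inv_eq_iff_eq_mul] at h2
        rw [show D.act (refl D.qform (T u)) = conjP (glOfEquiv (refl D.qform (T u)).1) from rfl, h2,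
          show D.act (refl D.qform u) = conjP (glOfEquiv (refl D.qform u).1) from rfl]
        group
      rw [h1]
      exact M'.mul_mem (M'.inv_mem (Subgroup.mem_map_of_mem _ hm))
        (hnorm _ _ (Subgroup.mem_map_of_mem _ hm))
    rcases (show 4 ≤ n ∨ n = 3 by omega) with h4 | h3
    · obtain ⟨l, hl⟩ := Submodule.mem_span_singleton.1 (Bal.near_eq_gen hker hR D.two
        (by rw [Module.finrank_fin_fun]; exact h4) M' hMo' hnorm hu' hu hmem)
      have hl0 : l ≠ 0 := fun e => hu (by rw [← hl, e, zero_smul, map_zero])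
      exact ⟨l⁻¹, (eq_inv_smul_iff₀ hl0).2 hl⟩
    · have hodd : Odd (Module.finrank F (Fin n → F)) := ⟨1, by rw [Module.finrank_fin_fun]; omega⟩
      set H : Subgroup (orthGroup D.qform) := specialOrth D.qform ⊓ M'.comap D.act
      haveI : H.Normal := ⟨fun a ha k => ⟨by
          show k * a * k⁻¹ ∈ specialOrth D.qform
          rw [mem_specialOrth, map_mul, map_mul, mem_specialOrth.1 ha.1, mul_one, map_inv,
            mul_inv_cancel], by
          show D.act (k * a * k⁻¹) ∈ M'
          rw [map_mul, map_mul, map_inv]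
          exact hnorm k _ ha.2⟩⟩
      have hHo : Odd (Nat.card H) := by
        refine Bal.odd_of_dvd hMo' (Subgroup.card_dvd_of_injective
          ((D.act.comp H.subtype).codRestrict M' fun a => a.2.2) fun a b hab => Subtype.ext ?_)
        exact Bal.eq_of_rho_eq hker hodd D.two (congrArg Subtype.val hab)
          (a.2.1.trans (b.2.1 : detHom D.qform b.1 = 1).symm)
      have h1 := Bal.three_eq_one hR D.two (by rw [Module.finrank_fin_fun]; exact h3) H hHo
        (show refl D.qform (T u) * refl D.qform u ∈ H from ⟨specialOrth_refl_mul_refl hu' hu, hmem⟩)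
      rw [mul_eq_one_iff_eq_inv, refl_inv] at h1
      obtain ⟨l, hl⟩ := Submodule.mem_span_singleton.1 (Bal.mem_line_of_refl_eq D.two hu' h1)
      exact ⟨l, hl.symm⟩
  obtain ⟨l, hl⟩ := Bal.exists_scalar_of_lines hR D.two (by rw [Module.finrank_fin_fun]; exact hn) T hlines
  have hti : ti = l • 1 := Matrix.ext_of_mulVec_single fun i => by
    rw [smul_mulVec, one_mulVec]
    exact hl _
  rw [← inv_eq_one, ← map_inv, pmk_eq_one_iff]
  refine ⟨l, ?_, hti⟩
  have := (s⁻¹ : SLn n F).2
  rwa [show ((s⁻¹ : SLn n F) : Mat n F) = l • 1 from hti, det_smul, det_one, mul_one, Fintype.card_fin] at this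

end

end FormData

end PSLBal

end H43
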